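import Cfsg.Agent.Lib.BaseTwo.Main

/-!
Odd groups on odd modules: vectors with abelian stabiliser, the imprimitive step.
-/

set_option autoImplicit false
set_option linter.unusedSectionVars false

namespace CfsgLib.Perm.DlNine.Odd

open CfsgLib.BaseTwo

universe u

/-- some vector of `W` has a stabiliser acting on `W` through an abelian group -/
def AbOn {A : Type*} [Group A] {V : Type*} [AddCommGroup V] [DistribMulAction A V]
    (H : Subgroup A) (W : AddSubgroup V) : Prop :=
  ∃ v ∈ W, ∀ a ∈ H, ∀ b ∈ H, a • v = v → b • v = v → ∀ x ∈ W, a • b • x = b • a • x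

/-- the hypothesis of the induction -/
def AbHyp (N : ℕ) : Prop :=
  ∀ (A V : Type u) [Group A] [Finite A] [AddCommGroup V] [Finite V] [DistribMulAction A V],
    Odd (Nat.card A) → Odd (Nat.card V) → Nat.card A ≤ N → CROn (⊤ : Subgroup A) (⊤ : AddSubgroup V) →
      AbOn (⊤ : Subgroup A) (⊤ : AddSubgroup V)

theorem eq_zero_of_neg_eq {V : Type*} [AddCommGroup V] [Finite V] (hV : Odd (Nat.card V)) {x : V}
    (h : -x = x) : x = 0 := by
  have h1 : 2 • x = 0 := by rw [two_nsmul]; exact neg_eq_iff_add_eq_zero.1 h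
  have h2 : addOrderOf x ∣ 2 := addOrderOf_dvd_of_nsmul_eq_zero h1
  have h3 : Odd (addOrderOf x) := hV.of_dvd_nat (addOrderOf_dvd_natCard x)
  rcases (Nat.dvd_prime Nat.prime_two).1 h2 with h4 | h4
  · exact AddMonoid.addOrderOf_eq_one_iff.1 h4
  · rw [h4] at h3
    exact absurd h3 (by decide)

theorem AbHyp.on {A V : Type u} [Group A] [Finite A] [AddCommGroup V] [Finite V] [DistribMulAction A V]
    {N : ℕ} (hL : AbHyp.{u} N) (hA : Odd (Nat.card A)) (hV : Odd (Nat.card V)) {H : Subgroup A}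
    (hcard : Nat.card H ≤ N) {W : AddSubgroup V} (hW : Inv H W) (hcr : CROn H W) : AbOn H W := by
  letI : DistribMulAction H W :=
    { smul := fun a x => ⟨(a : A) • (x : V), hW a a.2 x x.2⟩
      one_smul := fun x => Subtype.ext (one_smul A (x : V))
      mul_smul := fun a b x => Subtype.ext (mul_smul (a : A) b (x : V))
      smul_zero := fun a => Subtype.ext (smul_zero (a : A))
      smul_add := fun a x y => Subtype.ext (smul_add (a : A) (x : V) y) }
  have hcr' : CROn (⊤ : Subgroup H) (⊤ : AddSubgroup W) := by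
    intro U _ hU
    obtain ⟨U', hU'W, hU'inv, hinf, hsup⟩ := hcr (U.map W.subtype) (by
      rintro _ ⟨x, -, rfl⟩; exact x.2) (by
      rintro a ha _ ⟨x, hx, rfl⟩
      exact ⟨_, hU ⟨a, ha⟩ trivial x hx, rfl⟩)
    refine ⟨U'.comap W.subtype, le_top, fun a _ x hx => hU'inv a a.2 (x : V) hx, ?_, ?_⟩
    · refine (AddSubgroup.eq_bot_iff_forall _).2 fun x hx => Subtype.ext ?_
      have h : (x : V) ∈ U.map W.subtype ⊓ U' := ⟨⟨x, hx.1, rfl⟩, hx.2⟩
      rw [hinf, AddSubgroup.mem_bot] at h
      exact h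
    · refine eq_top_iff.2 fun x _ => ?_
      have h : (x : V) ∈ U.map W.subtype ⊔ U' := by rw [hsup]; exact x.2
      obtain ⟨_, ⟨y, hy, rfl⟩, z, hz, e⟩ := AddSubgroup.mem_sup.1 h
      exact AddSubgroup.mem_sup.2 ⟨y, hy, ⟨z, hU'W hz⟩, hz, Subtype.ext e⟩
  obtain ⟨v, -, h⟩ := hL H W (odd_subgroup hA H) (hV.of_dvd_nat W.card_addSubgroup_dvd_card) hcard hcr'
  exact ⟨v, v.2, fun a ha b hb hva hvb x hx => congrArg Subtype.val
    (h ⟨a, ha⟩ trivial ⟨b, hb⟩ trivial (Subtype.ext hva) (Subtype.ext hvb) ⟨x, hx⟩ trivial)⟩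

theorem AbOn.ne {A V : Type*} [Group A] [AddCommGroup V] [DistribMulAction A V] {H : Subgroup A}
    {W : AddSubgroup V} (h : AbOn H W) (hW : W ≠ ⊥) :
    ∃ v ∈ W, v ≠ 0 ∧ ∀ a ∈ H, ∀ b ∈ H, a • v = v → b • v = v → ∀ x ∈ W, a • b • x = b • a • x := by
  obtain ⟨v, hv, h⟩ := h
  rcases ne_or_eq v 0 with hv0 | rfl
  · exact ⟨v, hv, hv0, h⟩
  obtain ⟨x, hx, hx0⟩ : ∃ x ∈ W, x ≠ 0 := by
    by_contra hno
    push Not at hno
    exact hW ((AddSubgroup.eq_bot_iff_forall _).2 hno)
  exact ⟨x, hx, hx0, fun a ha b hb _ _ => h a ha b hb (smul_zero a) (smul_zero b)⟩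

/-- from irreducible pieces to completely reducible actions -/
theorem abOn_of_irr {A : Type*} [Group A] {V : Type*} [AddCommGroup V] [DistribMulAction A V] [Finite V]
    {H : Subgroup A}
    (hirr : ∀ W : AddSubgroup V, Inv H W → (∀ U ≤ W, Inv H U → U = ⊥ ∨ U = W) → AbOn H W) :
    ∀ W : AddSubgroup V, Inv H W → CROn H W → AbOn H W := by
  intro W
  induction h : Nat.card W using Nat.strong_induction_on generalizing W with
  | _ n ih =>
    intro hW hcr
    by_cases hmin : ∀ U ≤ W, Inv H U → U = ⊥ ∨ U = W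
    · exact hirr W hW hmin
    push Not at hmin
    obtain ⟨U, hUW, hU, hU0, hUne⟩ := hmin
    obtain ⟨U', hU'W, hU', hinf, hsup⟩ := hcr U hUW hU
    have hlt : ∀ X : AddSubgroup V, X ≤ W → X ≠ W → Nat.card X < n := fun X hX hne =>
      h ▸ Set.ncard_lt_ncard (SetLike.coe_ssubset_coe.2 (lt_of_le_of_ne hX hne)) (Set.toFinite _)
    have hU'ne : U' ≠ W := fun e => hU0 (by rw [← hinf, e]; exact (inf_eq_left.2 hUW).symm)
    obtain ⟨v, hv, h1⟩ := ih _ (hlt U hUW hUne) U rfl hU (hcr.mono hUW hU)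
    obtain ⟨v', hv', h2⟩ := ih _ (hlt U' hU'W hU'ne) U' rfl hU' (hcr.mono hU'W hU')
    refine ⟨v + v', add_mem (hUW hv) (hU'W hv'), fun a ha b hb ea eb x hx => ?_⟩
    have key : ∀ {g : A}, g ∈ H → g • (v + v') = v + v' → g • v = v ∧ g • v' = v' := by
      intro g hg e
      have h0 : g • v - v ∈ U ⊓ U' := AddSubgroup.mem_inf.2
        ⟨sub_mem (hU g hg v hv) hv, by
          rw [show g • v - v = v' - g • v' by
            rw [smul_add] at e; linear_combination (norm := abel) e]
          exact sub_mem hv' (hU' g hg v' hv')⟩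
      rw [hinf, AddSubgroup.mem_bot, sub_eq_zero] at h0
      rw [smul_add, h0, add_right_inj] at e
      exact ⟨h0, e⟩
    obtain ⟨a1, a1'⟩ := key ha ea
    obtain ⟨b1, b1'⟩ := key hb eb
    rw [← hsup] at hx
    obtain ⟨y, hy, y', hy', rfl⟩ := AddSubgroup.mem_sup.1 hx
    rw [smul_add b, smul_add a, smul_add a, smul_add b, h1 a ha b hb a1 b1 y hy, h2 a ha b hb a1' b1' y' hy']

variable {A V : Type u} [Group A] [Finite A] [AddCommGroup V] [Finite V] [DistribMulAction A V]

/-- the imprimitive case: signs on the blocks along a set with trivial stabiliser -/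
theorem abOn_of_idempotent (hA : Odd (Nat.card A)) (hV : Odd (Nat.card V)) {N : ℕ} (hcard : Nat.card A ≤ N)
    (hL : AbHyp.{u} (N - 1)) (hirr : Irr A V) {U : Subgroup A} (hU : U.Normal)
    (hUc : ∀ x ∈ U, ∀ y ∈ U, x * y = y * x) {e : AddMonoid.End V} (he : e ∈ scalars V U)
    (hee : e * e = e) (he0 : e ≠ 0) (he1 : e ≠ 1)
    (hprim : ∀ f ∈ scalars V U, f * f = f → f * e = f → f = 0 ∨ f = e) :
    AbOn (⊤ : Subgroup A) (⊤ : AddSubgroup V) := by
  classical
  haveI : Finite (AddMonoid.End V) := Finite.of_injective (fun f => (f : V → V)) DFunLike.coe_injective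
  let Ω := Set.range fun a : A => conjEnd (V := V) a e
  letI : MulAction A Ω :=
    { smul := fun a i => ⟨conjEnd a i.1, by
        obtain ⟨b, hb⟩ := i.2
        exact ⟨a * b, show conjEnd (a * b) e = _ by rw [conjEnd_mul]; exact congrArg _ hb⟩⟩
      one_smul := fun i => Subtype.ext (conjEnd_one i.1)
      mul_smul := fun a b i => Subtype.ext (conjEnd_mul a b i.1) }
  haveI : Fintype Ω := Fintype.ofFinite Ω
  have hmemS : ∀ i : Ω, (i : AddMonoid.End V) ∈ scalars V U := by
    rintro ⟨_, a, rfl⟩; exact conjEnd_mem_scalars hU a he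
  have hidem : ∀ i : Ω, (i : AddMonoid.End V) * i = i := by
    rintro ⟨_, a, rfl⟩
    show conjEnd a e * conjEnd a e = conjEnd a e
    rw [← map_mul, hee]
  have hpr : ∀ i : Ω, ∀ f ∈ scalars V U, f * f = f → f * i.1 = f → f = 0 ∨ f = i.1 := by
    rintro ⟨_, a, rfl⟩ f hf hff hfe
    have h := hprim (conjEnd a⁻¹ f) (conjEnd_mem_scalars hU _ hf) (by rw [← map_mul, hff]) (by
      have h := congrArg (conjEnd (V := V) a⁻¹) hfe
      rwa [map_mul, ← conjEnd_mul, inv_mul_cancel, conjEnd_one] at h)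
    have hb : conjEnd a (conjEnd a⁻¹ f) = f := by rw [← conjEnd_mul, mul_inv_cancel, conjEnd_one]
    rcases h with h | h
    · left; rw [← hb, h, map_zero]
    · right; show f = conjEnd a e; rw [← hb, h]
  have horth : ∀ i j : Ω, i ≠ j → (i : AddMonoid.End V) * j = 0 := by
    intro i j hij
    have hc := scalars_comm hUc (hmemS i) (hmemS j)
    have hff : (i : AddMonoid.End V) * j * (i.1 * j.1) = i.1 * j.1 := by
      rw [show (i : AddMonoid.End V) * j * (i.1 * j.1) = i.1 * (j.1 * i.1) * j.1 by simp only [mul_assoc],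
        ← hc, ← mul_assoc i.1, hidem i, mul_assoc, hidem j]
    have hS := mul_mem (hmemS i) (hmemS j)
    rcases hpr j _ hS hff (by rw [mul_assoc, hidem j]) with h | h
    · exact h
    rcases hpr i _ hS hff (by rw [mul_assoc, ← hc, ← mul_assoc, hidem i]) with h' | h'
    · exact h'
    exact absurd (Subtype.ext (h'.symm.trans h)) hij
  let i₀ : Ω := ⟨e, 1, conjEnd_one e⟩
  have htr : ∀ i : Ω, ∃ a : A, a • i₀ = i := by
    rintro ⟨_, a, rfl⟩; exact ⟨a, rfl⟩
  choose t ht using htr
  have hsmul : ∀ (a : A) (i : Ω) (x : V), (a • i).1 (a • x) = a • i.1 x := fun a i x => by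
    show conjEnd a i.1 (a • x) = _
    rw [conjEnd_apply, inv_smul_smul]
  have hsum : ∀ x : V, ∑ i : Ω, i.1 x = x := by
    let W : AddSubgroup V :=
      { carrier := {x | ∑ i : Ω, i.1 x = x}
        zero_mem' := by simp
        add_mem' := fun {x y} hx hy => by
          show ∑ i : Ω, i.1 (x + y) = x + y
          simp only [map_add, Finset.sum_add_distrib]
          rw [hx, hy]
        neg_mem' := fun {x} hx => by
          show ∑ i : Ω, i.1 (-x) = -x
          simp only [map_neg, Finset.sum_neg_distrib]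
          rw [hx] }
    have hW : Inv (⊤ : Subgroup A) W := by
      intro a _ x hx
      show ∑ i : Ω, i.1 (a • x) = a • x
      rw [← Equiv.sum_comp (MulAction.toPerm a : Equiv.Perm Ω) fun i => i.1 (a • x)]
      simp only [MulAction.toPerm_apply, hsmul, ← Finset.smul_sum]
      rw [show ∑ i : Ω, i.1 x = x from hx]
    obtain ⟨x, hx⟩ : ∃ x, e x ≠ 0 := by
      by_contra hno
      push Not at hno
      exact he0 (DFunLike.ext _ _ hno)
    have hmem : e x ∈ W := by
      show ∑ i : Ω, i.1 (e x) = e x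
      rw [Finset.sum_eq_single i₀]
      · exact DFunLike.congr_fun hee x
      · exact fun i _ hi => DFunLike.congr_fun (horth i i₀ hi) x
      · exact fun h => absurd (Finset.mem_univ _) h
    rcases hirr W hW with h | h
    · rw [h, AddSubgroup.mem_bot] at hmem; exact absurd hmem hx
    · intro y; exact (show y ∈ W by rw [h]; trivial)
  let H := MulAction.stabilizer A i₀
  have hHlt : Nat.card H ≤ N - 1 := by
    have hne : H ≠ ⊤ := fun hH => he1 (by
      refine DFunLike.ext _ _ fun y => ?_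
      have hsing : ∀ i : Ω, i = i₀ := fun i => by
        rw [← ht i]; exact (show t i ∈ H by rw [hH]; trivial : t i • i₀ = i₀)
      have h := hsum y
      rw [Finset.sum_eq_single i₀ (fun i _ hi => absurd (hsing i) hi)
        (fun h => absurd (Finset.mem_univ _) h)] at h
      exact h)
    have hlt : Nat.card H < Nat.card A :=
      lt_of_le_of_ne (Subgroup.card_le_card_group H) fun e => hne ((Subgroup.card_eq_iff_eq_top H).1 e)
    omega
  let W₀ : AddSubgroup V := AddMonoidHom.range (e : V →+ V)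
  have hfixW : ∀ x ∈ W₀, e x = x := by
    rintro _ ⟨y, rfl⟩; exact DFunLike.congr_fun hee y
  have hW₀ : Inv H W₀ := fun a ha x hx => by
    refine ⟨a • x, ?_⟩
    have h := hsmul a i₀ x
    rw [show a • i₀ = i₀ from ha] at h
    rw [show i₀.1 x = x from hfixW x hx] at h
    exact h
  have hirr₀ : ∀ Y ≤ W₀, Inv H Y → Y = ⊥ ∨ Y = W₀ := by
    intro Y hY hYinv
    let X : AddSubgroup V := ⨆ a : A, Y.map (DistribSMul.toAddMonoidHom V a)
    have hX : Inv (⊤ : Subgroup A) X := by
      intro b _ x hx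
      have : X ≤ X.comap (DistribSMul.toAddMonoidHom V b) := iSup_le fun a => by
        rintro _ ⟨y, hy, rfl⟩
        refine AddSubgroup.mem_iSup_of_mem (b * a) ⟨y, hy, ?_⟩
        simp [mul_smul]
      exact this hx
    rcases hirr X hX with h | h
    · refine Or.inl ((AddSubgroup.eq_bot_iff_forall _).2 fun x hx => ?_)
      have h' : (1 : A) • x ∈ X := AddSubgroup.mem_iSup_of_mem 1 ⟨x, hx, rfl⟩
      rwa [h, AddSubgroup.mem_bot, one_smul] at h'
    · refine Or.inr (le_antisymm hY fun x hx => ?_)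
      have hXY : X ≤ Y.comap e := iSup_le fun a => by
        rintro _ ⟨y, hy, rfl⟩
        show e (a • y) ∈ Y
        by_cases ha : a ∈ H
        · have h' := hYinv a ha y hy
          rw [hfixW _ (hY h')]
          exact h'
        · have h1 : a • y = (a • i₀).1 (a • y) := by
            rw [hsmul]; exact congrArg _ (hfixW y (hY hy)).symm
          rw [h1, show e ((a • i₀).1 (a • y)) = (i₀.1 * (a • i₀).1) (a • y) from rfl,
            horth i₀ (a • i₀) fun hh => ha hh.symm]
          exact zero_mem _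
      have h' : e x ∈ Y := hXY (show x ∈ X by rw [h]; trivial)
      rwa [hfixW x hx] at h'
  have hcr : CROn H W₀ := by
    intro Y hY hYinv
    rcases hirr₀ Y hY hYinv with rfl | rfl
    · exact ⟨W₀, le_rfl, hW₀, bot_inf_eq _, bot_sup_eq _⟩
    · exact ⟨⊥, bot_le, fun a _ x hx => by rw [AddSubgroup.mem_bot] at hx ⊢; rw [hx, smul_zero],
        inf_bot_eq _, sup_bot_eq _⟩
  obtain ⟨x, hx, hx0, hab⟩ := (hL.on hA hV hHlt hW₀ hcr).ne (by
    intro h
    refine he0 (DFunLike.ext _ _ fun v => ?_)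
    have hv : e v ∈ W₀ := ⟨v, rfl⟩
    rwa [h, AddSubgroup.mem_bot] at hv)
  obtain ⟨T, hT⟩ := (hyps.{u} (Nat.card A)).2 A Ω hA le_rfl
  let c : Ω → V := fun i => if i ∈ T then x else -x
  have hc : ∀ i, c i ∈ W₀ := fun i => by
    simp only [c]; split_ifs
    · exact hx
    · exact neg_mem hx
  have hcomp : ∀ i, i.1 (∑ j, t j • c j) = t i • c i := by
    intro i
    have hj : ∀ j, t j • c j = j.1 (t j • c j) := fun j => by
      have h := hsmul (t j) i₀ (c j)
      rw [ht j, show i₀.1 (c j) = c j from hfixW _ (hc j)] at h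
      exact h.symm
    rw [map_sum, Finset.sum_eq_single i]
    · exact (hj i).symm
    · intro j _ hne
      rw [hj j]
      exact DFunLike.congr_fun (horth i j hne.symm) _
    · exact fun h => absurd (Finset.mem_univ _) h
  have hmem : ∀ (a : A) (i : Ω), (t (a • i))⁻¹ * a * t i ∈ H := fun a i => by
    rw [MulAction.mem_stabilizer_iff, mul_smul, mul_smul, ht, inv_smul_eq_iff, ht]
  have hmove : ∀ a : A, a • (∑ j, t j • c j) = ∑ j, t j • c j →
      ∀ i, ((t (a • i))⁻¹ * a * t i) • c i = c (a • i) := by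
    intro a h i
    have h' := hsmul a i (∑ j, t j • c j)
    rw [h, hcomp, hcomp] at h'
    rw [mul_smul, mul_smul, inv_smul_eq_iff]
    exact h'.symm
  have hfix : ∀ a : A, a • (∑ j, t j • c j) = ∑ j, t j • c j → ∀ i : Ω, a • i = i := by
    intro a ha
    refine hT a fun i => ?_
    by_contra hd
    have e1 := hmove a ha i
    set g := (t (a • i))⁻¹ * a * t i
    have hswap : g • x = -x := by
      by_cases hi : i ∈ T
      · have hai : a • i ∉ T := fun h => hd (iff_of_true h hi)
        simpa only [c, if_pos hi, if_neg hai] using e1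
      · have hai : a • i ∈ T := by by_contra h; exact hd (iff_of_false h hi)
        simp only [c, if_neg hi, if_pos hai, smul_neg] at e1
        exact (neg_eq_iff_eq_neg.1 e1)
    have := smul_eq_of_sq hA (a := g) (x := x) (by rw [hswap, smul_neg, hswap, neg_neg])
    exact hx0 (eq_zero_of_neg_eq hV (hswap.symm.trans this))
  refine ⟨∑ j, t j • c j, trivial, fun a _ b _ ha hb v _ => ?_⟩
  have hgx : ∀ g : A, g • (∑ j, t j • c j) = ∑ j, t j • c j → ∀ i, ((t i)⁻¹ * g * t i) ∈ H ∧
      ((t i)⁻¹ * g * t i) • x = x := by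
    intro g hg i
    have e1 := hmove g hg i
    have h1 := hmem g i
    rw [hfix g hg i] at e1 h1
    refine ⟨h1, ?_⟩
    by_cases hi : i ∈ T
    · simpa only [c, if_pos hi] using e1
    · simpa only [c, if_neg hi, smul_neg, neg_inj] using e1
  rw [← hsum v, Finset.smul_sum, Finset.smul_sum, Finset.smul_sum, Finset.smul_sum]
  refine Finset.sum_congr rfl fun i _ => ?_
  have hiv : i.1 v = t i • e ((t i)⁻¹ • v) := by
    conv_lhs => rw [← ht i]
    show conjEnd (t i) e v = _
    rw [conjEnd_apply]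
  rw [hiv]
  obtain ⟨haH, hax⟩ := hgx a ha i
  obtain ⟨hbH, hbx⟩ := hgx b hb i
  have h0 := hab _ haH _ hbH hax hbx (e ((t i)⁻¹ • v)) ⟨_, rfl⟩
  simp only [← mul_smul] at h0 ⊢
  have := congrArg (fun z => t i • z) h0
  simp only [← mul_smul] at this
  simpa [mul_assoc] using this

/-- either an idempotent splits the action or the ring is a field -/
theorem abOn_cases (hA : Odd (Nat.card A)) (hV : Odd (Nat.card V)) {N : ℕ} (hcard : Nat.card A ≤ N)
    (hL : AbHyp.{u} (N - 1)) (hirr : Irr A V) {U : Subgroup A} (hU : U.Normal)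
    (hUc : ∀ x ∈ U, ∀ y ∈ U, x * y = y * x) :
    AbOn (⊤ : Subgroup A) (⊤ : AddSubgroup V) ∨
      ∀ s ∈ scalars V U, s ≠ 0 → ∃ s' ∈ scalars V U, s * s' = 1 := by
  classical
  haveI : Finite (AddMonoid.End V) := Finite.of_injective (fun f => (f : V → V)) DFunLike.coe_injective
  by_cases htriv : ∀ e ∈ scalars V U, e * e = e → e = 0 ∨ e = 1
  · refine Or.inr fun s hs hs0 => ?_
    obtain ⟨n, hn, hidem⟩ := exists_pow_idempotent s
    rcases htriv _ (pow_mem hs n) hidem with h | h
    · exact absurd (scalars_reduced hirr hU hUc hs ⟨n, h⟩) hs0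
    · refine ⟨s ^ (n - 1), pow_mem hs _, ?_⟩
      rw [← pow_succ', show n - 1 + 1 = n by omega, h]
  refine Or.inl ?_
  push Not at htriv
  obtain ⟨f, hf, hff, hf0, hf1⟩ := htriv
  obtain ⟨e, he, hmin⟩ := Set.exists_min_image
    {e : AddMonoid.End V | e ∈ scalars V U ∧ e * e = e ∧ e ≠ 0}
    (fun e : AddMonoid.End V => Nat.card (AddMonoidHom.range (e : V →+ V))) (Set.toFinite _) ⟨f, hf, hff, hf0⟩
  obtain ⟨heS, hee, he0⟩ := he
  refine abOn_of_idempotent hA hV hcard hL hirr hU hUc heS hee he0 (fun h1 => ?_) fun g hg hgg hge => ?_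
  · have h := hmin f ⟨hf, hff, hf0⟩
    refine hf1 (DFunLike.ext _ _ fun v => ?_)
    have htop : AddMonoidHom.range (f : V →+ V) = ⊤ := by
      refine AddSubgroup.eq_top_of_card_eq _ (le_antisymm (Nat.card_le_card_of_injective _ Subtype.val_injective) ?_)
      refine le_trans (le_of_eq ?_) h
      rw [h1]
      exact Nat.card_congr
        { toFun := fun x => ⟨x, x, rfl⟩, invFun := Subtype.val, left_inv := fun x => rfl, right_inv := fun x => rfl }
    obtain ⟨w, rfl⟩ : v ∈ AddMonoidHom.range (f : V →+ V) := by rw [htop]; trivial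
    exact DFunLike.congr_fun hff w
  · by_contra hno
    push Not at hno
    have hle : AddMonoidHom.range (g : V →+ V) ≤ AddMonoidHom.range (e : V →+ V) := by
      rintro _ ⟨v, rfl⟩
      exact ⟨g v, DFunLike.congr_fun ((scalars_comm hUc heS hg).trans hge) v⟩
    have heq : AddMonoidHom.range (g : V →+ V) = AddMonoidHom.range (e : V →+ V) :=
      AddSubgroup.eq_of_le_of_card_ge hle (hmin g ⟨hg, hgg, hno.1⟩)
    refine hno.2 (DFunLike.ext _ _ fun v => ?_)
    obtain ⟨w, hw⟩ : e v ∈ AddMonoidHom.range (g : V →+ V) := by rw [heq]; exact ⟨v, rfl⟩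
    have h : g (e v) = e v := by rw [← hw]; exact DFunLike.congr_fun hgg w
    rw [show g (e v) = (g * e) v from rfl, hge] at h
    exact h

end CfsgLib.Perm.DlNine.Odd
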