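import Mathlib

/-!
The numerical comparison behind the regular orbit.
-/

set_option autoImplicit false

namespace CfsgLib.Perm.DlNine.Odd

theorem poly_le_exp : ∀ l : ℕ, 9 ≤ l → 2 * (729 * l ^ 6) ≤ 21 * 7 ^ l := by
  intro l hl
  induction l, hl using Nat.le_induction with
  | base => norm_num
  | succ l hl ih =>
    have h : (l + 1) ^ 6 ≤ 7 * l ^ 6 := by
      have h1 : (9 * (l + 1)) ^ 6 ≤ (10 * l) ^ 6 := Nat.pow_le_pow_left (by omega) 6
      rw [mul_pow, mul_pow] at h1
      norm_num at h1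
      omega
    calc 2 * (729 * (l + 1) ^ 6) ≤ 7 * (2 * (729 * l ^ 6)) := by nlinarith [h]
      _ ≤ 7 * (21 * 7 ^ l) := Nat.mul_le_mul_left _ ih
      _ = _ := by ring

theorem pow_mono₂ {a b q l : ℕ} (ha : 0 < a) (hq : a ≤ q) (hl : b ≤ l) : a ^ b ≤ q ^ l :=
  (Nat.pow_le_pow_right ha hl).trans (Nat.pow_le_pow_left hq l)

/-- the two inequalities give the count -/
theorem count_lt_of {q n M N : ℕ} (hq : 1 ≤ q) (hA : 4 * N ≤ 7 * q ^ (n - 2 * n / 3))
    (hB : 20 * M + 4 * N + 9 ≤ q ^ (2 * n / 3)) :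
    5 * M * q ^ (n / 3) + N * (q ^ (2 * n / 3) + q ^ (n - 2 * n / 3)) + 2 < 2 * q ^ n := by
  have hn : q ^ (n - 2 * n / 3) * q ^ (2 * n / 3) = q ^ n := by rw [← pow_add]; congr 1; omega
  have h1 : q ^ (n / 3) ≤ q ^ (n - 2 * n / 3) := Nat.pow_le_pow_right hq (by omega)
  have h2 : 1 ≤ q ^ (n - 2 * n / 3) := Nat.one_le_pow _ _ hq
  have h3 := Nat.mul_le_mul_right (q ^ (2 * n / 3)) hA
  have h4 := Nat.mul_le_mul_left (q ^ (n - 2 * n / 3)) hB
  have h5 : 20 * M * q ^ (n / 3) ≤ 20 * M * q ^ (n - 2 * n / 3) := Nat.mul_le_mul_left _ h1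
  nlinarith [h3, h4, h5, hn, h2]

/-- the count for all the possible sections -/
theorem count_lt {q n e N : ℕ} (he : Odd e) (he3 : 3 ≤ e) (hen : e ≤ n) (hqo : Odd q) (hq1 : 1 < q)
    (hdiv : ∀ r, r.Prime → r ∣ e → r ∣ q - 1) (hN : 6 * N ≤ (e * e) ^ 3)
    (h3 : e = 3 → N = 0) (h5 : e = 5 → N ≤ 75) (h7 : e = 7 → N ≤ 147) (h9 : e = 9 → N ≤ 405)
    (h11 : e = 11 → N ≤ 1815) :
    5 * (e * e) * q ^ (n / 3) + N * (q ^ (2 * n / 3) + q ^ (n - 2 * n / 3)) + 2 < 2 * q ^ n := by
  obtain ⟨j, hj⟩ := hqo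
  have hq7 : 7 ≤ q := by
    obtain ⟨r, hr, hre⟩ := Nat.exists_prime_and_dvd (n := e) (by omega)
    have h2 : r ≠ 2 := fun h => by
      obtain ⟨k, hk⟩ := he
      rw [h] at hre
      omega
    obtain ⟨c, hc⟩ := hdiv r hr hre
    obtain ⟨i, hi⟩ := hr.odd_of_ne_two h2
    have := hr.two_le
    rcases c with _ | _ | c
    · omega
    · omega
    · rcases le_or_gt 7 q with h | h
      · exact h
      · have h6 : r * 2 ≤ r * (c + 1 + 1) := Nat.mul_le_mul_left r (by omega)
        omega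
  by_cases hs : e ≤ 11
  · have he' : e = 3 ∨ e = 5 ∨ e = 7 ∨ e = 9 ∨ e = 11 := by obtain ⟨k, hk⟩ := he; omega
    rcases he' with rfl | rfl | rfl | rfl | rfl
    · rw [h3 rfl, zero_mul, add_zero]
      have h1 : q ^ (n / 3) * 7 ^ 2 ≤ q ^ n :=
        calc q ^ (n / 3) * 7 ^ 2 ≤ q ^ (n / 3) * q ^ (n - n / 3) :=
              Nat.mul_le_mul_left _ (pow_mono₂ (by norm_num) hq7 (by omega))
          _ = q ^ n := by rw [← pow_add]; congr 1; omega
      have h2 : 1 ≤ q ^ (n / 3) := Nat.one_le_pow _ _ (by omega)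
      omega
    · have hq : 11 ≤ q := by have := hdiv 5 (by norm_num) (dvd_refl _); omega
      exact count_lt_of (by omega)
        (le_trans (by linarith [h5 rfl]) (Nat.mul_le_mul_left 7 (pow_mono₂ (b := 2) (by norm_num) hq (by omega))))
        (le_trans (by linarith [h5 rfl]) (pow_mono₂ (b := 3) (by norm_num) hq (by omega)))
    · have hq : 15 ≤ q := by have := hdiv 7 (by norm_num) (dvd_refl _); omega
      exact count_lt_of (by omega)
        (le_trans (by linarith [h7 rfl]) (Nat.mul_le_mul_left 7 (pow_mono₂ (b := 3) (by norm_num) hq (by omega))))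
        (le_trans (by linarith [h7 rfl]) (pow_mono₂ (b := 4) (by norm_num) hq (by omega)))
    · exact count_lt_of (by omega)
        (le_trans (by linarith [h9 rfl]) (Nat.mul_le_mul_left 7 (pow_mono₂ (b := 3) (by norm_num) hq7 (by omega))))
        (le_trans (by linarith [h9 rfl]) (pow_mono₂ (b := 6) (by norm_num) hq7 (by omega)))
    · have hq : 23 ≤ q := by have := hdiv 11 (by norm_num) (dvd_refl _); omega
      exact count_lt_of (by omega)
        (le_trans (by linarith [h11 rfl]) (Nat.mul_le_mul_left 7 (pow_mono₂ (b := 4) (by norm_num) hq (by omega))))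
        (le_trans (by linarith [h11 rfl]) (pow_mono₂ (b := 7) (by norm_num) hq (by omega)))
  have hbig : 2 * e ^ 6 ≤ 21 * q ^ (n - 2 * n / 3) := by
    by_cases hl : 27 ≤ e
    · refine le_trans ?_ (Nat.mul_le_mul_left 21 (Nat.pow_le_pow_left hq7 _))
      refine le_trans ?_ (poly_le_exp _ (by omega))
      rw [show (729 : ℕ) = 3 ^ 6 by norm_num, ← mul_pow]
      exact Nat.mul_le_mul_left 2 (Nat.pow_le_pow_left (by omega) 6)
    · have he' : e = 13 ∨ e = 15 ∨ e = 17 ∨ e = 19 ∨ e = 21 ∨ e = 23 ∨ e = 25 := by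
        obtain ⟨k, hk⟩ := he; omega
      have key : ∀ a b : ℕ, 0 < a → a ≤ q → b ≤ n - 2 * n / 3 → 2 * e ^ 6 ≤ 21 * a ^ b →
          2 * e ^ 6 ≤ 21 * q ^ (n - 2 * n / 3) := fun a b ha h1 h2 h =>
        h.trans (Nat.mul_le_mul_left 21 (pow_mono₂ ha h1 h2))
      rcases he' with rfl | rfl | rfl | rfl | rfl | rfl | rfl
      · exact key 27 5 (by norm_num) (by have := hdiv 13 (by norm_num) (dvd_refl _); omega) (by omega) (by norm_num)
      · exact key 31 5 (by norm_num) (by
          have := hdiv 3 (by norm_num) (by norm_num)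
          have := hdiv 5 (by norm_num) (by norm_num)
          omega) (by omega) (by norm_num)
      · exact key 35 6 (by norm_num) (by have := hdiv 17 (by norm_num) (dvd_refl _); omega) (by omega) (by norm_num)
      · exact key 39 7 (by norm_num) (by have := hdiv 19 (by norm_num) (dvd_refl _); omega) (by omega) (by norm_num)
      · exact key 43 7 (by norm_num) (by
          have := hdiv 3 (by norm_num) (by norm_num)
          have := hdiv 7 (by norm_num) (by norm_num)
          omega) (by omega) (by norm_num)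
      · exact key 47 8 (by norm_num) (by have := hdiv 23 (by norm_num) (dvd_refl _); omega) (by omega) (by norm_num)
      · exact key 11 9 (by norm_num) (by have := hdiv 5 (by norm_num) (by norm_num); omega) (by omega) (by norm_num)
  have he6 : (e * e) ^ 3 = e ^ 6 := by ring
  rw [he6] at hN
  refine count_lt_of (by omega) (by omega) ?_
  have h1 : 20 * (e * e) + 9 ≤ e ^ 6 := by
    have h13 : 13 ≤ e := by obtain ⟨k, hk⟩ := he; omega
    nlinarith [Nat.pow_le_pow_left h13 4]
  calc 20 * (e * e) + 4 * N + 9 ≤ 49 * q ^ (n - 2 * n / 3) := by omega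
    _ ≤ q ^ 2 * q ^ (n - 2 * n / 3) := Nat.mul_le_mul_right _ (by nlinarith [hq7])
    _ ≤ _ := by rw [← pow_add]; exact Nat.pow_le_pow_right (by omega) (by omega)

end CfsgLib.Perm.DlNine.Odd
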