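import Mathlib

/-!
Fixed-space counting: eigenspaces of distinct values are independent, and powers of `q` are superadditive.
-/

set_option autoImplicit false

namespace CfsgLib.Perm.DlNine.Odd

open Module

variable {K V : Type*} [Field K] [AddCommGroup V] [Module K V] [FiniteDimensional K V]

/-- dimensions of eigenspaces for distinct values add up to at most the dimension -/
theorem sum_finrank_eigenspace_le {ι : Type*} (T : Module.End K V) (μ : ι → K) (s : Finset ι)
    (hμ : Set.InjOn μ (s : Set ι)) :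
    ∑ i ∈ s, finrank K (T.eigenspace (μ i)) ≤ finrank K V := by
  classical
  have hind : iSupIndep T.eigenspace := T.eigenspaces_iSupIndep
  have key : ∀ t : Finset K, ∑ z ∈ t, finrank K (T.eigenspace z) = finrank K ↥(t.sup T.eigenspace) := by
    intro t
    induction t using Finset.induction_on with
    | empty => rw [Finset.sum_empty, Finset.sup_empty, finrank_bot]
    | insert z t hz ih =>
      rw [Finset.sum_insert hz, ih, Finset.sup_insert]
      have hd : Disjoint (T.eigenspace z) (t.sup T.eigenspace) :=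
        (iSupIndep_iff_supIndep.1 hind (insert z t)) (Finset.subset_insert z t) (Finset.mem_insert_self z t) hz
      have := Submodule.finrank_sup_add_finrank_inf_eq (T.eigenspace z) (t.sup T.eigenspace)
      rw [hd.eq_bot, finrank_bot, add_zero] at this
      exact this.symm
  rw [← Finset.sum_image (g := μ) (f := fun z => finrank K (T.eigenspace z)) hμ, key]
  exact Submodule.finrank_le _

/-- `(q ^ d - 1) / d` increases with `d` -/
theorem pow_sub_one_mul_le {q : ℕ} (hq : 1 ≤ q) {d L : ℕ} (h : d ≤ L) :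
    L * (q ^ d - 1) ≤ d * (q ^ L - 1) := by
  rcases Nat.eq_zero_or_pos d with rfl | hd
  · simp
  obtain ⟨k, rfl⟩ := Nat.exists_eq_add_of_le h
  obtain ⟨j, rfl⟩ := Nat.exists_eq_add_of_le hq
  have hgeo : ∀ m : ℕ, (1 + j) ^ m - 1 = j * ∑ i ∈ Finset.range m, (1 + j) ^ i := by
    intro m
    induction m with
    | zero => simp
    | succ m ih =>
      have h1 : 1 ≤ (1 + j) ^ m := Nat.one_le_pow _ _ (by omega)
      rw [Finset.sum_range_succ, mul_add, ← ih, pow_succ, mul_add, mul_one, mul_comm ((1 + j) ^ m) j]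
      omega
  rw [hgeo, hgeo, mul_left_comm, mul_left_comm d]
  refine Nat.mul_le_mul_left j ?_
  rw [Finset.sum_range_add, mul_add, add_mul]
  refine add_le_add_right ?_ _
  have h1 : ∑ i ∈ Finset.range d, (1 + j) ^ i ≤ d * (1 + j) ^ d := by
    refine le_trans (Finset.sum_le_card_nsmul _ _ ((1 + j) ^ d) fun i hi => ?_) (by simp)
    exact Nat.pow_le_pow_right (by omega) (Finset.mem_range.1 hi).le
  have h2 : k * (1 + j) ^ d ≤ ∑ i ∈ Finset.range k, (1 + j) ^ (d + i) := by
    refine le_trans (by simp) (Finset.card_nsmul_le_sum _ _ ((1 + j) ^ d) fun i _ => ?_)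
    exact Nat.pow_le_pow_right (by omega) (Nat.le_add_right d i)
  calc k * ∑ i ∈ Finset.range d, (1 + j) ^ i ≤ k * (d * (1 + j) ^ d) := Nat.mul_le_mul_left _ h1
    _ = d * (k * (1 + j) ^ d) := by ring
    _ ≤ _ := Nat.mul_le_mul_left _ h2

/-- at most `k` full spaces -/
theorem sum_pow_sub_one_le {ι : Type*} (s : Finset ι) (d : ι → ℕ) {q L n k : ℕ} (hq : 1 ≤ q) (hL : 1 ≤ L)
    (hd : ∀ i ∈ s, d i ≤ L) (hs : ∑ i ∈ s, d i ≤ n) (hn : n ≤ k * L) :
    ∑ i ∈ s, (q ^ d i - 1) ≤ k * q ^ L := by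
  refine Nat.le_of_mul_le_mul_left ?_ (show 0 < L from hL)
  calc L * ∑ i ∈ s, (q ^ d i - 1) = ∑ i ∈ s, L * (q ^ d i - 1) := Finset.mul_sum _ _ _
    _ ≤ ∑ i ∈ s, d i * (q ^ L - 1) := Finset.sum_le_sum fun i hi => pow_sub_one_mul_le hq (hd i hi)
    _ = (∑ i ∈ s, d i) * (q ^ L - 1) := (Finset.sum_mul _ _ _).symm
    _ ≤ (k * L) * q ^ L := Nat.mul_le_mul (hs.trans hn) (Nat.sub_le _ _)
    _ = L * (k * q ^ L) := by ring

/-- one big space and the rest -/
theorem sum_pow_sub_one_le_two {ι : Type*} (s : Finset ι) (d : ι → ℕ) {q L n : ℕ} (hq : 3 ≤ q)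
    (hd : ∀ i ∈ s, d i ≤ L) (hs : ∑ i ∈ s, d i ≤ n) (h2 : n ≤ 2 * L) (h3 : n + 3 ≤ 3 * L) (hlt : L < n) :
    ∑ i ∈ s, (q ^ d i - 1) ≤ q ^ L + q ^ (n - L) := by
  classical
  by_cases hbig : ∃ i ∈ s, d i = L
  · obtain ⟨i, hi, hdi⟩ := hbig
    rw [← Finset.add_sum_erase _ _ hi, hdi]
    rw [← Finset.add_sum_erase _ _ hi, hdi] at hs
    refine add_le_add (Nat.sub_le _ _) ((sum_pow_sub_one_le (k := 1) (L := n - L) (n := n - L) _ d (by omega) (by omega) (fun j hj => ?_)
      (show ∑ j ∈ s.erase i, d j ≤ n - L by omega) (by omega)).trans (by rw [one_mul]))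
    have := Finset.single_le_sum (f := d) (fun _ _ => Nat.zero_le _) hj
    omega
  · push Not at hbig
    refine le_trans ((sum_pow_sub_one_le (k := 3) s d (q := q) (L := L - 1) (n := n) (by omega) (by omega)
      (fun i hi => by have := hd i hi; have := hbig i hi; omega) hs (by omega)).trans ?_) (Nat.le_add_right _ _)
    calc 3 * q ^ (L - 1) ≤ q * q ^ (L - 1) := Nat.mul_le_mul_right _ hq
      _ = q ^ L := by rw [← pow_succ', show L - 1 + 1 = L by omega]

end CfsgLib.Perm.DlNine.Odd
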