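import Cfsg.Agent.Lib.Perm.DlNine.Odd.Small

/-!
Stabilisers in a section of order `3 ^ 4` are `3`-groups modulo the kernel.
-/

set_option autoImplicit false
set_option linter.style.haveILetI false
set_option linter.unusedSectionVars false

namespace CfsgLib.Perm.DlNine.Odd

open scoped commutatorElement

universe u

variable {A : Type u} [Group A]

namespace Pairing

variable {U C F : Subgroup A} (P : Pairing U C F)
include P

/-- stabilisers in a section of order `81` -/
theorem stab_eightyone [Finite A] (hA : Odd (Nat.card A)) {K : Type*} [Field K] (φ : U →* K)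
    (hφ : Function.Injective φ)
    (hgen : F = U ⊔ sSup {E : Subgroup A | E.Normal ∧ U < E ∧ E ≤ F ∧
      ∀ N : Subgroup A, N.Normal → U ≤ N → N ≤ E → N = U ∨ N = E})
    (hM : U.relIndex F = 3 ^ 4) :
    ∀ x ∈ F, x ∉ U → ∀ g ∈ C, ⁅g, x⁆ ∈ U → ∃ i : ℕ, g ^ 3 ^ i ∈ P.ker := by
  classical
  intro x hx hxU g hg hgx
  haveI := P.normalU
  have h3 : ∀ {a : A}, a ∈ F → a ^ 3 ∈ U := fun ha => P.pow_r_mem hgen Nat.prime_three hM ha
  let q := QuotientGroup.mk' U
  let X : Subgroup A :=
    { carrier := {y | y ∈ F ∧ ⁅x, y⁆ = 1}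
      one_mem' := ⟨one_mem _, commutatorElement_one_right _⟩
      mul_mem' := fun {a b} ha hb => ⟨mul_mem ha.1 hb.1, by
        rw [P.mul_right (P.leC ha.1) (P.comm x hx b hb.1), ha.2, hb.2, one_mul]⟩
      inv_mem' := fun {a} ha => ⟨inv_mem ha.1, commutatorElement_eq_one_iff_mul_comm.2
        ((commutatorElement_eq_one_iff_commute.1 ha.2).inv_right).eq⟩ }
  have hUX : U ≤ X := fun u hu => ⟨P.le hu, P.comm_one_of_mem (P.leC hx) hu⟩
  have hXF : X ≤ F := fun y hy => hy.1
  have hxX : x ∈ X := ⟨hx, commutatorElement_self x⟩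
  let X₀ : Subgroup A := U ⊔ Subgroup.zpowers x
  have hX₀X : X₀ ≤ X := sup_le hUX (Subgroup.zpowers_le.2 hxX)
  have hUX₀ : U ≤ X₀ := le_sup_left
  -- the indices
  have h1 := Subgroup.relIndex_mul_relIndex U X F hUX hXF
  have h2 := Subgroup.relIndex_mul_relIndex U X₀ X hUX₀ hX₀X
  have hXF3 : X.relIndex F = 3 := by
    have hle : X.relIndex F ≤ 3 := by
      let S : Set K := ↑(Polynomial.nthRootsFinset 3 (1 : K))
      have hle := relIndex_le_card X F S (Set.toFinite _)
        (fun y => if hy : y ∈ F then φ ⟨⁅x, y⁆, P.comm x hx y hy⟩ else 1) (fun y hy => by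
          simp only [dif_pos hy]
          show _ ∈ Polynomial.nthRootsFinset 3 (1 : K)
          rw [Polynomial.mem_nthRootsFinset (by norm_num), ← map_pow,
            show (⟨⁅x, y⁆, P.comm x hx y hy⟩ : U) ^ 3 = 1 from Subtype.ext (by
              show ⁅x, y⁆ ^ 3 = 1
              rw [← P.pow_left (P.leC hx) hy (P.comm x hx y hy), P.comm_one_of_mem' (P.leC hy) (h3 hx)]), map_one])
        fun y hy y' hy' e => ⟨mul_mem (inv_mem hy) hy', by
          simp only [dif_pos hy, dif_pos hy'] at e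
          have e' : ⁅x, y⁆ = ⁅x, y'⁆ := congrArg Subtype.val (hφ e)
          rw [P.mul_right (P.leC (inv_mem hy)) (P.comm x hx y' hy'), ← e',
            ← P.mul_right (P.leC (inv_mem hy)) (P.comm x hx y hy), inv_mul_cancel, commutatorElement_one_right]⟩
      refine hle.trans ?_
      rw [Nat.card_coe_set_eq, Set.ncard_coe_finset, Polynomial.nthRootsFinset_def]
      exact (Multiset.toFinset_card_le _).trans (Polynomial.card_nthRoots 3 1)
    have hne : X.relIndex F ≠ 1 := fun e => hxU (P.sep x (P.leC hx) fun y hy =>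
      commutatorElement_eq_one_iff_mul_comm.1 ((Subgroup.relIndex_eq_one.1 e) hy).2)
    rw [hM] at h1
    obtain ⟨i, -, hi⟩ := (Nat.dvd_prime_pow Nat.prime_three).1 (Dvd.intro_left _ h1)
    rcases i with _ | _ | i
    · exact absurd (hi.trans (pow_zero 3)) hne
    · rw [hi, zero_add, pow_one]
    · rw [hi, show i + 1 + 1 = 2 + i by omega, pow_add] at hle
      have := Nat.one_le_pow i 3 (by norm_num)
      omega
  have hUX₀3 : U.relIndex X₀ = 3 := by
    have hle : U.relIndex X₀ ≤ 3 := by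
      refine (relIndex_le_card U X₀ (Subgroup.zpowers (q x) : Set (A ⧸ U)) (Set.toFinite _) (fun a => q a)
        (fun a ha => ?_) fun a _ a' _ e => (QuotientGroup.eq (s := U)).1 e).trans ?_
      · have : X₀ ≤ (Subgroup.zpowers (q x)).comap q := sup_le
          (fun u hu => by rw [Subgroup.mem_comap, show q u = 1 from (QuotientGroup.eq_one_iff u).2 hu]; exact one_mem _)
          (Subgroup.zpowers_le.2 (Subgroup.mem_zpowers (q x)))
        exact this ha
      · show Nat.card (Subgroup.zpowers (q x)) ≤ 3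
        rw [Nat.card_zpowers]
        exact Nat.le_of_dvd (by norm_num) (orderOf_dvd_of_pow_eq_one (by
          rw [← map_pow]; exact (QuotientGroup.eq_one_iff _).2 (h3 hx)))
    rw [hXF3, hM, ← h2] at h1
    obtain ⟨i, -, hi⟩ := (Nat.dvd_prime_pow Nat.prime_three (m := 4)).1 (Dvd.intro (X₀.relIndex X * 3) (by rw [← mul_assoc]; exact h1))
    rcases i with _ | _ | i
    · exact absurd ((Subgroup.relIndex_eq_one.1 (hi.trans (pow_zero 3))) (Subgroup.mem_sup_right (Subgroup.mem_zpowers x))) hxU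
    · rw [hi, zero_add, pow_one]
    · rw [hi, show i + 1 + 1 = 2 + i by omega, pow_add] at hle
      have := Nat.one_le_pow i 3 (by norm_num)
      omega
  have hX₀X9 : X₀.relIndex X = 9 := by
    rw [hXF3, hM, ← h2, hUX₀3] at h1
    omega
  -- the action on the middle
  set N := P.fixer x hx with hN
  have hNC : ∀ {k : A}, k ∈ N → k ∈ C := fun h => h.1
  have hconjX₀ : ∀ {k : A}, k ∈ N → ∀ a ∈ X₀, k * a * k⁻¹ ∈ X₀ := by
    intro k hk a ha
    have : X₀ ≤ X₀.comap (MulAut.conj k).toMonoidHom := sup_le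
      (fun u hu => Subgroup.mem_sup_left (P.normalU.conj_mem u hu k))
      (Subgroup.zpowers_le.2 (show k * x * k⁻¹ ∈ X₀ by
        rw [show k * x * k⁻¹ = ⁅k, x⁆ * x by simp [commutatorElement_def]]
        exact mul_mem (Subgroup.mem_sup_left hk.2) (Subgroup.mem_sup_right (Subgroup.mem_zpowers x))))
    exact this ha
  have hconjX : ∀ {k : A}, k ∈ N → ∀ a ∈ X, k * a * k⁻¹ ∈ X := by
    intro k hk a ha
    have hka : k * a * k⁻¹ ∈ F := P.normal.conj_mem a ha.1 k
    refine ⟨hka, ?_⟩
    calc ⁅x, k * a * k⁻¹⁆ = ⁅⁅k, x⁆ * x, k * a * k⁻¹⁆ := by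
          rw [P.mul_left (P.memC hk.2) hka (P.comm x hx _ hka), P.comm_one_of_mem' (P.leC hka) hk.2, one_mul]
      _ = k * ⁅x, a⁆ * k⁻¹ := by simp only [commutatorElement_def]; group
      _ = 1 := by rw [ha.2, mul_one, mul_inv_cancel]
  haveI hX₀n : (X₀.subgroupOf X).Normal := ⟨fun a ha b => by
    rw [Subgroup.mem_subgroupOf] at ha ⊢
    rw [Subgroup.coe_mul, Subgroup.coe_mul, Subgroup.coe_inv,
      show (b : A) * a * (b : A)⁻¹ = ⁅(b : A), (a : A)⁆ * a by simp [commutatorElement_def]]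
    exact mul_mem (hUX₀ (P.comm _ b.2.1 _ a.2.1)) ha⟩
  let Z := X ⧸ X₀.subgroupOf X
  let act : N → Z →* Z := fun k => QuotientGroup.map (X₀.subgroupOf X) (X₀.subgroupOf X)
    { toFun := fun a => ⟨(k : A) * a * (k : A)⁻¹, hconjX k.2 a a.2⟩
      map_one' := Subtype.ext (show (k : A) * 1 * (k : A)⁻¹ = 1 by group)
      map_mul' := fun a b => Subtype.ext (show (k : A) * ((a : A) * b) * (k : A)⁻¹ =
        ((k : A) * a * (k : A)⁻¹) * ((k : A) * b * (k : A)⁻¹) by group) }
    (fun a ha => hconjX₀ k.2 a ha)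
  letI : MulAction N Z :=
    { smul := fun k z => act k z
      one_smul := fun z => QuotientGroup.induction_on z fun a => congrArg QuotientGroup.mk (Subtype.ext
        (show ((1 : N) : A) * a * ((1 : N) : A)⁻¹ = a by simp))
      mul_smul := fun k l z => QuotientGroup.induction_on z fun a => congrArg QuotientGroup.mk (Subtype.ext
        (show ((k * l : N) : A) * a * ((k * l : N) : A)⁻¹ = k * (l * a * (l : A)⁻¹) * (k : A)⁻¹ by
          rw [Subgroup.coe_mul]; group)) }
  have hoddA : ∀ G : Subgroup A, Odd (Nat.card G) := fun G => BaseTwo.odd_subgroup hA G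
  have hZ : Nat.card Z = 9 := by rw [← Subgroup.index_eq_card]; exact hX₀X9
  let γ : N := ⟨g, hg, hgx⟩
  have hmid : ∀ z : Z, γ ^ 3 • z = z := by
    intro z
    rcases eq_or_ne z 1 with rfl | hz
    · exact map_one (act _)
    let G := Subgroup.zpowers γ
    let O := MulAction.orbit G z
    have hinv : ∀ (k : N) (w : Z), k • w⁻¹ = (k • w)⁻¹ := fun k w => map_inv (act k) w
    have hdisj : Disjoint O ((fun w => w⁻¹) '' O) := Set.disjoint_left.2 fun w hw hw' => by
      obtain ⟨v, ⟨k, hk⟩, rfl⟩ := hw'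
      obtain ⟨l, hl⟩ := hw
      have hkz : ((l⁻¹ * k : G) : N) • z = z⁻¹ := by
        rw [Subgroup.coe_mul, mul_smul, show ((k : G) : N) • z = v from hk,
          show v = (v⁻¹)⁻¹ from (inv_inv v).symm, ← show ((l : G) : N) • z = v⁻¹ from hl, hinv, Subgroup.coe_inv,
          inv_smul_smul]
      have h1 := BaseTwo.smul_eq_of_sq (hoddA N) (a := ((l⁻¹ * k : G) : N)) (x := z)
        (by rw [hkz, hinv, hkz, inv_inv])
      rw [h1] at hkz
      refine hz ?_
      have h2 : z * z = 1 := by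
        nth_rw 2 [hkz]
        exact mul_inv_cancel z
      have h4 : orderOf z ∣ Nat.gcd 2 9 := Nat.dvd_gcd (orderOf_dvd_of_pow_eq_one (by rw [sq, h2]))
        (hZ ▸ orderOf_dvd_natCard z)
      exact orderOf_eq_one_iff.1 (Nat.dvd_one.1 h4)
    have hone : ∀ w ∈ O, w ≠ 1 := by
      rintro _ ⟨k, rfl⟩ h
      exact hz (by
        have h' := congrArg (fun v => (k : N)⁻¹ • v) (show (k : N) • z = 1 from h)
        simp only [inv_smul_smul] at h'
        rw [h', show ((k : N)⁻¹ • (1 : Z)) = 1 from map_one (act _)])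
    have hsub : O ∪ (fun w => w⁻¹) '' O ⊆ ({1}ᶜ : Set Z) := by
      rintro w (hw | ⟨v, hv, rfl⟩)
      · exact hone w hw
      · exact fun h => hone v hv (inv_eq_one.1 h)
    have hcardO := Set.ncard_le_ncard hsub (Set.toFinite _)
    rw [Set.ncard_union_eq hdisj, Set.ncard_image_of_injective _ inv_injective, Set.ncard_compl, hZ,
      Set.ncard_singleton, ← MulAction.index_stabilizer] at hcardO
    set i := (MulAction.stabilizer G z).index with hi
    have hio : Odd i := (hoddA N |>.of_dvd_nat G.card_subgroup_dvd_card).of_dvd_nat (Subgroup.index_dvd_card _)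
    have hpos : 0 < i := hio.pos
    have hmem := Subgroup.pow_index_mem (MulAction.stabilizer G z) (⟨γ, Subgroup.mem_zpowers γ⟩ : G)
    rw [← hi] at hmem
    have h13 : i = 1 ∨ i = 3 := by
      obtain ⟨j, hj⟩ := hio
      omega
    have hfix : γ ^ i • z = z := hmem
    rcases h13 with h | h <;> rw [h] at hfix
    · rw [pow_succ, pow_succ, pow_one, mul_smul, mul_smul]
      rw [pow_one] at hfix
      rw [hfix, hfix, hfix]
    · exact hfix
  -- `g ^ 3` acts through a unipotent map of length three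
  set h := g ^ 3 with hh
  have hhN : h ∈ N := Subgroup.pow_mem N γ.2 3
  refine ⟨2, ?_⟩
  rw [show (3 : ℕ) ^ 2 = 3 * 3 by norm_num, pow_mul, ← hh]
  refine ⟨Subgroup.pow_mem C (hNC hhN) 3, fun y hy => (P.fix_iff hy).1 ?_⟩
  set z := ⁅h, y⁆ with hz
  have hky : h * y * h⁻¹ ∈ F := P.normal.conj_mem y hy h
  have hzX : z ∈ X := ⟨P.comm_memF hy, by
    have e1 : ⁅x, h * y * h⁻¹⁆ = ⁅x, y⁆ := by
      calc ⁅x, h * y * h⁻¹⁆ = ⁅⁅h, x⁆ * x, h * y * h⁻¹⁆ := by
            rw [P.mul_left (P.memC hhN.2) hky (P.comm x hx _ hky), P.comm_one_of_mem' (P.leC hky) hhN.2, one_mul]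
        _ = h * ⁅x, y⁆ * h⁻¹ := by simp only [commutatorElement_def]; group
        _ = ⁅x, y⁆ := by rw [P.central h (hNC hhN) _ (P.comm x hx y hy), mul_inv_cancel_right]
    rw [show z = h * y * h⁻¹ * y⁻¹ by rw [hz, commutatorElement_def],
      P.mul_right (P.leC hky) (P.comm x hx _ (inv_mem hy)), e1, ← P.mul_right (P.leC hy) (P.comm x hx _ (inv_mem hy)),
      mul_inv_cancel, commutatorElement_one_right]⟩
  set w := ⁅h, z⁆ with hw
  have hwX₀ : w ∈ X₀ := by
    have h' := QuotientGroup.eq.1 (hmid (QuotientGroup.mk (⟨z, hzX⟩ : X))).symm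
    have h'' : z⁻¹ * (((γ ^ 3 : N) : A) * z * ((γ ^ 3 : N) : A)⁻¹) ∈ X₀ := Subgroup.mem_subgroupOf.1 h'
    rw [show ((γ ^ 3 : N) : A) = h from SubmonoidClass.coe_pow γ 3] at h''
    have hzz := hX₀n.conj_mem ⟨z⁻¹ * (h * z * h⁻¹), mul_mem (inv_mem hzX) (hconjX hhN z hzX)⟩
      (Subgroup.mem_subgroupOf.2 h'') ⟨z, hzX⟩
    have hzz' := Subgroup.mem_subgroupOf.1 hzz
    rw [Subgroup.coe_mul, Subgroup.coe_mul, Subgroup.coe_inv] at hzz'
    rw [hw, commutatorElement_def]
    convert hzz' using 1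
    group
  have hqx : Commute (q h) (q x) := by
    have h' : q h * q x * (q h)⁻¹ = q x := by
      rw [← map_inv, ← map_mul, ← map_mul]; exact (P.fix_iff hx).2 hhN.2
    exact mul_inv_eq_iff_eq_mul.1 h'
  have hwh : Commute (q h) (q w) := by
    have hsub : X₀ ≤ (Subgroup.centralizer ({q h} : Set (A ⧸ U))).comap q := by
      refine sup_le (fun u hu => ?_) (Subgroup.zpowers_le.2 ?_) <;>
        rw [Subgroup.mem_comap, Subgroup.mem_centralizer_singleton_iff]
      · rw [show q u = 1 from (QuotientGroup.eq_one_iff u).2 hu, one_mul, mul_one]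
      · exact hqx.eq.symm
    have := hsub hwX₀
    rw [Subgroup.mem_comap, Subgroup.mem_centralizer_singleton_iff] at this
    exact this.symm
  have hwF : w ∈ F := hXF (hX₀X hwX₀)
  have hzF : z ∈ F := hXF hzX
  have hzw : Commute (q z) (q w) := by
    have h' := (P.fix_iff (g := z) hwF).2 (P.comm z hzF w hwF)
    change q (z * w * z⁻¹) = q w at h'
    rw [map_mul, map_mul, map_inv] at h'
    exact mul_inv_eq_iff_eq_mul.1 h'
  have σy : q h * q y * (q h)⁻¹ = q z * q y := by
    rw [hz, commutatorElement_def, map_mul, map_mul, map_mul, map_inv, map_inv]; group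
  have σz : q h * q z * (q h)⁻¹ = q w * q z := by
    rw [hw, commutatorElement_def, map_mul, map_mul, map_mul, map_inv, map_inv]; group
  have σw : q h * q w * (q h)⁻¹ = q w := by rw [hwh.eq, mul_inv_cancel_right]
  have hz3 : q z ^ 3 = 1 := by rw [← map_pow]; exact (QuotientGroup.eq_one_iff _).2 (h3 hzF)
  have hw3 : q w ^ 3 = 1 := by rw [← map_pow]; exact (QuotientGroup.eq_one_iff _).2 (h3 hwF)
  show q (h ^ 3 * y * (h ^ 3)⁻¹) = q y
  rw [map_mul, map_mul, map_inv, map_pow]
  have s2 : q h * (q h * q y * (q h)⁻¹) * (q h)⁻¹ = q w * q z * (q z * q y) := by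
    rw [σy, show q h * (q z * q y) * (q h)⁻¹ = (q h * q z * (q h)⁻¹) * (q h * q y * (q h)⁻¹) by group, σz, σy]
  calc q h ^ 3 * q y * (q h ^ 3)⁻¹ = q h * (q h * (q h * q y * (q h)⁻¹) * (q h)⁻¹) * (q h)⁻¹ := by
        rw [pow_three', mul_inv_rev, mul_inv_rev]; simp only [mul_assoc]
    _ = (q h * q w * (q h)⁻¹) * (q h * q z * (q h)⁻¹) * ((q h * q z * (q h)⁻¹) * (q h * q y * (q h)⁻¹)) := by
      rw [s2]; group
    _ = q w * (q w * q z) * ((q w * q z) * (q z * q y)) := by rw [σw, σz, σy]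
    _ = (q w * q w * q w) * (q z * q z * q z) * q y := by
      have e : q z * q w = q w * q z := hzw.eq
      calc q w * (q w * q z) * ((q w * q z) * (q z * q y))
          = q w * q w * (q z * q w) * q z * q z * q y := by simp only [mul_assoc]
        _ = _ := by rw [e]; simp only [mul_assoc]
    _ = q y := by
      rw [← pow_three', ← pow_three', hw3, hz3, one_mul,
        one_mul]

end Pairing

end CfsgLib.Perm.DlNine.Odd
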