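import Cfsg.Agent.Lib.BaseTwo.Main

/-!
A normal section with central commutators: the pairing, its radical, complete reducibility and orbit bounds.
-/

set_option autoImplicit false
set_option linter.style.haveILetI false
set_option linter.unusedSectionVars false

namespace CfsgLib.Perm.DlNine.Odd

open scoped commutatorElement

universe u

variable {A : Type u} [Group A]

/-- `C` normalises `Y` -/
def Stab (C Y : Subgroup A) : Prop := ∀ g ∈ C, ∀ y ∈ Y, g * y * g⁻¹ ∈ Y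

/-- an index bound from an almost injective map -/
theorem relIndex_le_card {α : Type*} (H G : Subgroup A) (S : Set α) (hS : S.Finite) (f : A → α)
    (hf : ∀ g ∈ G, f g ∈ S) (h : ∀ g ∈ G, ∀ g' ∈ G, f g = f g' → g⁻¹ * g' ∈ H) :
    H.relIndex G ≤ Nat.card S := by
  classical
  haveI := hS.to_subtype
  rw [Subgroup.relIndex, Subgroup.index]
  refine Nat.card_le_card_of_injective
    (fun c : G ⧸ H.subgroupOf G => (⟨f (c.out : G), hf _ c.out.2⟩ : S)) fun c c' e => ?_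
  rw [← c.out_eq', ← c'.out_eq']
  exact QuotientGroup.eq.2 (h _ c.out.2 _ c'.out.2 (congrArg Subtype.val e))

/-- a normal section with commutators in a central subgroup -/
structure Pairing (U C F : Subgroup A) : Prop where
  normalU : U.Normal
  normal : F.Normal
  normalC : C.Normal
  le : U ≤ F
  leC : F ≤ C
  central : ∀ g ∈ C, ∀ u ∈ U, g * u = u * g
  comm : ∀ x ∈ F, ∀ y ∈ F, ⁅x, y⁆ ∈ U
  sep : ∀ g ∈ C, (∀ x ∈ F, g * x = x * g) → g ∈ U

namespace Pairing

variable {U C F : Subgroup A} (P : Pairing U C F)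
include P

theorem memC {u : A} (hu : u ∈ U) : u ∈ C := P.leC (P.le hu)

theorem comm_memF {g x : A} (hx : x ∈ F) : ⁅g, x⁆ ∈ F := by
  rw [commutatorElement_def]
  exact mul_mem (P.normal.conj_mem x hx g) (inv_mem hx)

theorem comm_one_of_mem {g u : A} (hg : g ∈ C) (hu : u ∈ U) : ⁅g, u⁆ = 1 :=
  commutatorElement_eq_one_iff_mul_comm.2 (P.central g hg u hu)

theorem comm_one_of_mem' {g u : A} (hg : g ∈ C) (hu : u ∈ U) : ⁅u, g⁆ = 1 :=
  commutatorElement_eq_one_iff_mul_comm.2 (P.central g hg u hu).symm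

theorem mul_left {g h x : A} (hg : g ∈ C) (hx : x ∈ F) (hh : ⁅h, x⁆ ∈ U) :
    ⁅g * h, x⁆ = ⁅g, x⁆ * ⁅h, x⁆ := by
  have h1 : ⁅g * h, x⁆ = g * ⁅h, x⁆ * g⁻¹ * ⁅g, x⁆ := by simp only [commutatorElement_def]; group
  rw [h1, P.central g hg _ hh, mul_inv_cancel_right, (P.central _ (P.leC (P.comm_memF hx)) _ hh)]

theorem mul_right {g x y : A} (hx : x ∈ C) (hy : ⁅g, y⁆ ∈ U) : ⁅g, x * y⁆ = ⁅g, x⁆ * ⁅g, y⁆ := by
  have h1 : ⁅g, x * y⁆ = ⁅g, x⁆ * (x * ⁅g, y⁆ * x⁻¹) := by simp only [commutatorElement_def]; group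
  rw [h1, P.central x hx _ hy, mul_inv_cancel_right]

theorem pow_left {g x : A} (hg : g ∈ C) (hx : x ∈ F) (h : ⁅g, x⁆ ∈ U) (k : ℕ) :
    ⁅g ^ k, x⁆ = ⁅g, x⁆ ^ k := by
  induction k with
  | zero => rw [pow_zero, pow_zero, commutatorElement_one_left]
  | succ k ih => rw [pow_succ, P.mul_left (pow_mem hg k) hx h, ih, pow_succ]

theorem inv_left {g x : A} (hg : g ∈ C) (hx : x ∈ F) (h : ⁅g, x⁆ ∈ U) : ⁅g⁻¹, x⁆ = ⁅g, x⁆⁻¹ := by
  refine eq_inv_of_mul_eq_one_left ?_
  rw [← P.mul_left (inv_mem hg) hx h, inv_mul_cancel, commutatorElement_one_left]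

/-- the elements centralising the section -/
def ker : Subgroup A where
  carrier := {g | g ∈ C ∧ ∀ x ∈ F, ⁅g, x⁆ ∈ U}
  one_mem' := ⟨one_mem C, fun x _ => by rw [commutatorElement_one_left]; exact one_mem U⟩
  mul_mem' := fun {a b} ha hb => ⟨mul_mem ha.1 hb.1, fun x hx => by
    rw [P.mul_left ha.1 hx (hb.2 x hx)]; exact mul_mem (ha.2 x hx) (hb.2 x hx)⟩
  inv_mem' := fun {a} ha => ⟨inv_mem ha.1, fun x hx => by
    rw [P.inv_left ha.1 hx (ha.2 x hx)]; exact inv_mem (ha.2 x hx)⟩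

theorem mem_ker {g : A} : g ∈ P.ker ↔ g ∈ C ∧ ∀ x ∈ F, ⁅g, x⁆ ∈ U := Iff.rfl

theorem ker_le : P.ker ≤ C := fun _ h => h.1

theorem le_ker : U ≤ P.ker := fun u hu => ⟨P.memC hu, fun x hx => by
  rw [P.comm_one_of_mem' (P.leC hx) hu]; exact one_mem U⟩

theorem F_le_ker : F ≤ P.ker := fun x hx => ⟨P.leC hx, fun y hy => P.comm x hx y hy⟩

theorem ker_normal : P.ker.Normal := ⟨fun k hk g => ⟨P.normalC.conj_mem k hk.1 g, fun x hx => by
  have h := P.normalU.conj_mem _ (hk.2 (g⁻¹ * x * g) (by simpa using P.normal.conj_mem x hx g⁻¹)) g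
  convert h using 1
  simp only [commutatorElement_def]; group⟩⟩

/-- commutation with a fixed element as a fixer -/
theorem fix_iff {g x : A} (hx : x ∈ F) :
    (QuotientGroup.mk (g * x * g⁻¹) : A ⧸ U) = QuotientGroup.mk x ↔ ⁅g, x⁆ ∈ U := by
  haveI := P.normalU
  rw [← mul_inv_eq_one, ← QuotientGroup.mk_inv, ← QuotientGroup.mk_mul, QuotientGroup.eq_one_iff,
    commutatorElement_def]

/-- duality: the number of characters is at most the number of cosets -/
theorem relIndex_le_of_pairing [Finite A] {K : Type*} [Field K] (φ : U →* K) (hφ : Function.Injective φ)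
    {X X₀ Y Y₀ : Subgroup A} (hXC : X ≤ C) (hYF : Y ≤ F) (hY₀ : Y₀ ≤ Y)
    (hpair : ∀ x ∈ X, ∀ y ∈ Y, ⁅x, y⁆ ∈ U)
    (hrad : ∀ x ∈ X, (∀ y ∈ Y, ⁅x, y⁆ = 1) → x ∈ X₀)
    (htriv : ∀ x ∈ X, ∀ y ∈ Y₀, ⁅x, y⁆ = 1) :
    X₀.relIndex X ≤ Y₀.relIndex Y := by
  classical
  haveI : Fintype (Y ⧸ Y₀.subgroupOf Y) := Fintype.ofFinite _
  let f : X → (Y →* K) := fun x =>
    { toFun := fun y => φ ⟨⁅(x : A), (y : A)⁆, hpair x x.2 y y.2⟩
      map_one' := by
        rw [show (⟨⁅(x : A), ((1 : Y) : A)⁆, hpair x x.2 _ (1 : Y).2⟩ : U) = 1 from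
          Subtype.ext (commutatorElement_one_right _), map_one]
      map_mul' := fun a b => by
        rw [← map_mul]
        exact congrArg φ (Subtype.ext (P.mul_right (P.leC (hYF a.2)) (hpair x x.2 b b.2))) }
  have hf : ∀ x x' : X, f x = f x' → (x : A)⁻¹ * (x' : A) ∈ X₀ := fun x x' e =>
    hrad _ (mul_mem (inv_mem x.2) x'.2) fun y hy => by
      have h : ⁅(x : A), y⁆ = ⁅(x' : A), y⁆ :=
        congrArg Subtype.val (hφ (DFunLike.congr_fun e ⟨y, hy⟩))
      rw [P.mul_left (inv_mem (hXC x.2)) (hYF hy) (hpair x' x'.2 y hy),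
        P.inv_left (hXC x.2) (hYF hy) (hpair x x.2 y hy), h, inv_mul_cancel]
  have hconst : ∀ (x : X) (a b : Y), QuotientGroup.leftRel (Y₀.subgroupOf Y) a b → f x a = f x b := by
    intro x a b hab
    rw [QuotientGroup.leftRel_apply, Subgroup.mem_subgroupOf] at hab
    have hb : b = a * (a⁻¹ * b) := (mul_inv_cancel_left a b).symm
    rw [hb, map_mul]
    suffices f x (a⁻¹ * b) = 1 by rw [this, mul_one]
    show φ _ = 1
    rw [show (⟨⁅(x : A), ((a⁻¹ * b : Y) : A)⁆, hpair x x.2 _ (a⁻¹ * b : Y).2⟩ : U) = 1 from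
      Subtype.ext (htriv x x.2 _ hab), map_one]
  let S : Set (Y →* K) := Set.range f
  let ψ : S → (Y ⧸ Y₀.subgroupOf Y → K) := fun s c => (s : Y →* K) c.out
  have hψ : LinearIndependent K ψ := by
    refine LinearIndependent.of_comp (LinearMap.funLeft K K (QuotientGroup.mk : Y → Y ⧸ Y₀.subgroupOf Y)) ?_
    have h : (LinearMap.funLeft K K (QuotientGroup.mk : Y → Y ⧸ Y₀.subgroupOf Y)) ∘ ψ =
        fun s : S => ((s : Y →* K) : Y → K) := by
      funext s y
      obtain ⟨x, hx⟩ := s.2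
      show (s : Y →* K) (Quotient.out _) = _
      rw [← hx]
      exact hconst x _ _ (Quotient.mk_out y)
    rw [h]
    exact (linearIndependent_monoidHom Y K).comp _ Subtype.val_injective
  haveI : Fintype S := Fintype.ofFinite _
  have hcard := hψ.fintype_card_le_finrank
  rw [Module.finrank_fintype_fun_eq_card, ← Nat.card_eq_fintype_card, ← Nat.card_eq_fintype_card] at hcard
  refine le_trans ?_ hcard
  refine relIndex_le_card _ X S (Set.toFinite _) (fun g => if hg : g ∈ X then f ⟨g, hg⟩ else 1)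
    (fun g hg => ⟨⟨g, hg⟩, by simp only [dif_pos hg]⟩) fun g hg g' hg' e => hf ⟨g, hg⟩ ⟨g', hg'⟩ ?_
  simpa only [dif_pos hg, dif_pos hg'] using e

theorem ker_relIndex_le [Finite A] {K : Type*} [Field K] (φ : U →* K) (hφ : Function.Injective φ) :
    U.relIndex P.ker ≤ U.relIndex F :=
  P.relIndex_le_of_pairing φ hφ P.ker_le le_rfl P.le (fun x hx y hy => hx.2 y hy)
    (fun x hx h => P.sep x hx.1 fun y hy => commutatorElement_eq_one_iff_mul_comm.1 (h y hy))
    (fun x hx y hy => P.comm_one_of_mem hx.1 hy)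

/-- the section has square order -/
theorem exists_sq [Finite A] {K : Type*} [Field K] (φ : U →* K) (hφ : Function.Injective φ) :
    ∃ e : ℕ, U.relIndex F = e * e := by
  classical
  obtain ⟨L, ⟨hUL, hLF, hLc⟩, hmax⟩ := Set.Finite.exists_maximal
    (s := {L : Subgroup A | U ≤ L ∧ L ≤ F ∧ ∀ a ∈ L, ∀ b ∈ L, a * b = b * a}) (Set.toFinite _)
    ⟨U, le_rfl, P.le, fun a ha b hb => P.central a (P.memC ha) b hb⟩
  have hself : ∀ x ∈ F, (∀ y ∈ L, x * y = y * x) → x ∈ L := by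
    intro x hx hxc
    let L' := Subgroup.closure (insert x (L : Set A))
    have h1 : L ≤ L' := fun y hy => Subgroup.subset_closure (Set.mem_insert_of_mem _ hy)
    refine hmax (y := L') ⟨hUL.trans h1, (Subgroup.closure_le _).2 (Set.insert_subset hx hLF), ?_⟩ h1
      (Subgroup.subset_closure (Set.mem_insert _ _))
    have hset : ∀ a ∈ insert x (L : Set A), ∀ b ∈ insert x (L : Set A), a * b = b * a := by
      rintro a (rfl | ha) b (rfl | hb)
      · rfl
      · exact hxc b hb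
      · exact (hxc a ha).symm
      · exact hLc a ha b hb
    exact fun a ha b hb => congrArg Subtype.val
      ((Subgroup.isMulCommutative_closure hset).is_comm.comm ⟨a, ha⟩ ⟨b, hb⟩)
  have h1 : L.relIndex F ≤ U.relIndex L :=
    P.relIndex_le_of_pairing φ hφ P.leC hLF hUL (fun x hx y hy => P.comm x hx y (hLF hy))
      (fun x hx h => hself x hx fun y hy => commutatorElement_eq_one_iff_mul_comm.1 (h y hy))
      (fun x hx y hy => P.comm_one_of_mem (P.leC hx) hy)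
  have h2 : U.relIndex L ≤ L.relIndex F :=
    P.relIndex_le_of_pairing φ hφ (hLF.trans P.leC) le_rfl hLF (fun x hx y hy => P.comm x (hLF hx) y hy)
      (fun x hx h => P.sep x (P.leC (hLF hx)) fun y hy => commutatorElement_eq_one_iff_mul_comm.1 (h y hy))
      (fun x hx y hy => commutatorElement_eq_one_iff_mul_comm.2 (hLc x hx y hy))
  exact ⟨U.relIndex L, by rw [← Subgroup.relIndex_mul_relIndex U L F hUL hLF, le_antisymm h1 h2]⟩

/-- a prime of the section is a prime of the scalars -/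
theorem dvd_card_of_dvd [Finite A] {r : ℕ} (hr : r.Prime) (h : r ∣ U.relIndex F) : r ∣ Nat.card U := by
  haveI := P.normalU
  haveI := Fact.mk hr
  obtain ⟨c, hc⟩ := exists_prime_orderOf_dvd_card' (G := F ⧸ U.subgroupOf F) r h
  obtain ⟨⟨x, hx⟩, rfl⟩ := QuotientGroup.mk_surjective c
  have hxr : x ^ r ∈ U := by
    have h1 := pow_orderOf_eq_one (QuotientGroup.mk (⟨x, hx⟩ : F) : F ⧸ U.subgroupOf F)
    rw [hc, ← QuotientGroup.mk_pow, QuotientGroup.eq_one_iff] at h1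
    exact h1
  have hxU : x ∉ U := fun hxU => by
    rw [(QuotientGroup.eq_one_iff (⟨x, hx⟩ : F)).2 (show (⟨x, hx⟩ : F) ∈ U.subgroupOf F from hxU), orderOf_one] at hc
    exact hr.ne_one hc.symm
  obtain ⟨y, hy, hxy⟩ : ∃ y ∈ F, ⁅x, y⁆ ≠ 1 := by
    by_contra hno
    push Not at hno
    exact hxU (P.sep x (P.leC hx) fun y hy => commutatorElement_eq_one_iff_mul_comm.1 (hno y hy))
  have hz : ⁅x, y⁆ ∈ U := P.comm x hx y hy
  have hzr : ⁅x, y⁆ ^ r = 1 := by
    rw [← P.pow_left (P.leC hx) hy hz, P.comm_one_of_mem' (P.leC hy) hxr]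
  have h2 : orderOf (⟨⁅x, y⁆, hz⟩ : U) = r :=
    orderOf_eq_prime (Subtype.ext hzr) fun e => hxy (congrArg Subtype.val e)
  rw [← h2]
  exact orderOf_dvd_natCard _

/-- complements of invariant parts of the section, from minimal normal pieces -/
theorem exists_compl [Finite A] (hgen : F = U ⊔ sSup {E : Subgroup A | E.Normal ∧ U < E ∧ E ≤ F ∧
      ∀ N : Subgroup A, N.Normal → U ≤ N → N ≤ E → N = U ∨ N = E})
    {Y : Subgroup A} (hUY : U ≤ Y) (hYF : Y ≤ F) (hY : Stab C Y) :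
    ∃ Y' : Subgroup A, U ≤ Y' ∧ Y' ≤ F ∧ Stab C Y' ∧ Y ⊓ Y' = U ∧ Y ⊔ Y' = F := by
  classical
  haveI := P.normalU
  haveI := P.normalC
  have hUst : Stab C U := fun g _ u hu => P.normalU.conj_mem u hu g
  have hnorm : ∀ {X : Subgroup A}, U ≤ X → X ≤ F → ∀ {y : A}, y ∈ F → y ∈ Subgroup.normalizer (X : Set A) := by
    intro X hUX hXF y hy
    refine Subgroup.mem_normalizer_iff.2 fun x => ?_
    have key : ∀ a ∈ F, ∀ x ∈ X, a * x * a⁻¹ ∈ X := fun a ha x hx => by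
      rw [show a * x * a⁻¹ = ⁅a, x⁆ * x by simp [commutatorElement_def]]
      exact mul_mem (hUX (P.comm a ha x (hXF hx))) hx
    refine ⟨key y hy x, fun h => ?_⟩
    have h2 := key y⁻¹ (inv_mem hy) _ h
    simpa [mul_assoc] using h2
  have hprod : ∀ {X Z : Subgroup A}, U ≤ X → X ≤ F → Z ≤ F → ∀ w ∈ Z ⊔ X, ∃ z ∈ Z, ∃ x ∈ X, z * x = w := by
    intro X Z hUX hXF hZF w hw
    have h := Subgroup.coe_mul_of_left_le_normalizer_right Z X fun z hz => hnorm hUX hXF (hZF hz)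
    rw [← SetLike.mem_coe, h] at hw
    exact Set.mem_mul.1 hw
  have hsup : ∀ {X Z : Subgroup A}, Stab C X → Stab C Z → Stab C (X ⊔ Z) := by
    intro X Z hX hZ g hg w hw
    have : X ⊔ Z ≤ (X ⊔ Z).comap (MulAut.conj g).toMonoidHom :=
      sup_le (fun x hx => Subgroup.mem_sup_left (hX g hg x hx)) fun z hz => Subgroup.mem_sup_right (hZ g hg z hz)
    exact this hw
  obtain ⟨Y', ⟨hUY', hY'F, hY', hinf⟩, hmax⟩ := Set.Finite.exists_maximal
    (s := {X : Subgroup A | U ≤ X ∧ X ≤ F ∧ Stab C X ∧ Y ⊓ X = U}) (Set.toFinite _)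
    ⟨U, le_rfl, P.le, hUst, inf_eq_right.2 hUY⟩
  refine ⟨Y', hUY', hY'F, hY', hinf, le_antisymm (sup_le hYF hY'F) ?_⟩
  set S := Y ⊔ Y' with hS
  have hUS : U ≤ S := hUY.trans le_sup_left
  have hSF : S ≤ F := sup_le hYF hY'F
  have hSst : Stab C S := hsup hY hY'
  by_contra hne
  obtain ⟨E, ⟨hEn, hUE, hEF, hEmin⟩, hES⟩ : ∃ E, (E.Normal ∧ U < E ∧ E ≤ F ∧
      ∀ N : Subgroup A, N.Normal → U ≤ N → N ≤ E → N = U ∨ N = E) ∧ ¬ E ≤ S := by
    by_contra hno
    push Not at hno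
    refine hne ?_
    rw [hgen]
    exact sup_le hUS (sSup_le fun E hE => hno E hE)
  obtain ⟨W, ⟨hUW, hWE, hW⟩, hWmin⟩ := Set.Finite.exists_minimal
    (s := {X : Subgroup A | U < X ∧ X ≤ E ∧ Stab C X}) (Set.toFinite _)
    ⟨E, hUE, le_rfl, fun g _ y hy => hEn.conj_mem y hy g⟩
  obtain ⟨a, w, hw, haw⟩ : ∃ a : A, ∃ w ∈ W, a * w * a⁻¹ ∉ S := by
    by_contra hno
    push Not at hno
    have hle : Subgroup.normalClosure (W : Set A) ≤ S := by
      refine (Subgroup.closure_le _).2 fun z hz => ?_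
      obtain ⟨w, hw, hc⟩ := Group.mem_conjugatesOfSet_iff.1 hz
      obtain ⟨a, rfl⟩ := isConj_iff.1 hc
      exact hno a w hw
    have hW1 : W ≤ Subgroup.normalClosure (W : Set A) := Subgroup.le_normalClosure
    haveI := hEn
    rcases hEmin (Subgroup.normalClosure (W : Set A)) inferInstance (hUW.le.trans hW1)
      (Subgroup.normalClosure_le_normal (N := E) hWE) with h | h
    · exact lt_irrefl U (lt_of_lt_of_le hUW (h ▸ hW1))
    · exact hES (h ▸ hle)
  let W' : Subgroup A := W.map (MulAut.conj a).toMonoidHom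
  have hWmem : ∀ {z : A}, z ∈ W' ↔ a⁻¹ * z * a ∈ W := by
    intro z
    constructor
    · rintro ⟨y, hy, rfl⟩
      simpa [mul_assoc] using hy
    · exact fun h => ⟨_, h, by simp [mul_assoc]⟩
  have hUW' : U ≤ W' := fun u hu => hWmem.2 (hUW.le (by simpa using P.normalU.conj_mem u hu a⁻¹))
  have hW'E : W' ≤ E := by
    rintro _ ⟨y, hy, rfl⟩
    exact hEn.conj_mem y (hWE hy) a
  have hW'st : Stab C W' := fun g hg z hz => hWmem.2 (by
    have h := hW (a⁻¹ * g * a) (by simpa using P.normalC.conj_mem g hg a⁻¹) _ (hWmem.1 hz)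
    simpa [mul_assoc] using h)
  have hcap : ∀ z ∈ W', z ∈ S → z ∈ U := by
    intro z hz hzS
    by_contra hzU
    let X : Subgroup A := W ⊓ S.comap (MulAut.conj a).toMonoidHom
    have hUX : U < X := lt_of_le_of_ne (le_inf hUW.le fun u hu => hUS (P.normalU.conj_mem u hu a)) fun e => by
      have h : a⁻¹ * z * a ∈ X := ⟨hWmem.1 hz, show a * (a⁻¹ * z * a) * a⁻¹ ∈ S by simpa [mul_assoc] using hzS⟩
      rw [← e] at h
      exact hzU (by simpa [mul_assoc] using P.normalU.conj_mem _ h a)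
    have hXst : Stab C X := fun g hg y hy => ⟨hW g hg y hy.1, by
      have h := hSst (a * g * a⁻¹) (P.normalC.conj_mem g hg a) _ hy.2
      show a * (g * y * g⁻¹) * a⁻¹ ∈ S
      simpa [mul_assoc] using h⟩
    exact haw (hWmin (y := X) ⟨hUX, inf_le_left.trans hWE, hXst⟩ inf_le_left hw).2
  refine haw (Subgroup.mem_sup_right (hmax (y := Y' ⊔ W') ⟨hUY'.trans le_sup_left,
    sup_le hY'F (hW'E.trans hEF), hsup hY' hW'st, ?_⟩ le_sup_left
    (Subgroup.mem_sup_right (⟨w, hw, rfl⟩ : a * w * a⁻¹ ∈ W'))))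
  refine le_antisymm (fun z hz => ?_) (le_inf hUY (hUY'.trans le_sup_left))
  obtain ⟨z₁, h₁, z₂, h₂, rfl⟩ := hprod hUW' (hW'E.trans hEF) hY'F z hz.2
  have h2U : z₂ ∈ U := hcap z₂ h₂ (by
    rw [show z₂ = z₁⁻¹ * (z₁ * z₂) by group]
    exact mul_mem (inv_mem (Subgroup.mem_sup_right h₁)) (Subgroup.mem_sup_left hz.1))
  rw [← hinf]
  exact ⟨hz.1, mul_mem h₁ (hUY' h2U)⟩

end Pairing

end CfsgLib.Perm.DlNine.Odd
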