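import Cfsg.Agent.Lib.Perm.DlNine.Odd.Regular

/-!
An odd group acting completely reducibly on an odd abelian group fixes some vector only through an abelian subgroup.
-/

set_option autoImplicit false
set_option linter.style.haveILetI false
set_option linter.unusedSectionVars false

namespace CfsgLib.Perm.DlNine.Odd

open scoped commutatorElement
open CfsgLib.BaseTwo

universe u

/-- the irreducible step -/
theorem abOn_irreducible {A V : Type u} [Group A] [Finite A] [AddCommGroup V] [Finite V] [DistribMulAction A V]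
    (hA : Odd (Nat.card A)) (hV : Odd (Nat.card V)) {N : ℕ} (hcard : Nat.card A ≤ N) (hL : AbHyp.{u} (N - 1))
    (hf : ∀ a : A, (∀ v : V, a • v = v) → a = 1) (hirr : Irr A V) :
    AbOn (⊤ : Subgroup A) (⊤ : AddSubgroup V) := by
  classical
  by_cases hnt : ∃ v : V, v ≠ 0
  swap
  · push Not at hnt
    exact ⟨0, trivial, fun a _ b _ _ _ x _ => by rw [hnt x]; simp⟩
  haveI := CfsgLib.FT.odd_order_solvable hA
  obtain ⟨U, hU, hUmax⟩ := Set.Finite.exists_maximal
    (s := {W : Subgroup A | W.Normal ∧ ∀ x ∈ W, ∀ y ∈ W, x * y = y * x}) (Set.toFinite _)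
    ⟨⊥, inferInstance, fun x hx y hy => by rw [Subgroup.mem_bot.1 hx, Subgroup.mem_bot.1 hy]⟩
  obtain ⟨hUn, hUc⟩ := hU
  haveI := hUn
  rcases abOn_cases hA hV hcard hL hirr hUn hUc with h | h
  · exact h
  have F₀ : FieldCase A V U := ⟨hnt, hUn, hUc, h, hf⟩
  have hmax : ∀ W : Subgroup A, W.Normal → U ≤ W → (∀ x ∈ W, ∀ y ∈ W, x * y = y * x) → W = U :=
    fun W hW hle hc => le_antisymm (hUmax ⟨hW, hc⟩ hle) hle
  set C := Subgroup.centralizer (U : Set A) with hCdef
  have hUC : U ≤ C := fun x hx => Subgroup.mem_centralizer_iff.2 fun y hy => hUc y hy x hx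
  have hcentral : ∀ g ∈ C, ∀ u ∈ U, g * u = u * g :=
    fun g hg u hu => (Subgroup.mem_centralizer_iff.1 hg u hu).symm
  suffices hreg : ∃ v : V, v ≠ 0 ∧ ∀ g ∈ C, g • v = v → g ∈ U by
    obtain ⟨v, hv0, hv⟩ := hreg
    refine ⟨v, trivial, fun a _ b _ ha hb x _ => ?_⟩
    haveI := F₀.cyclic
    obtain ⟨u₀, hu₀⟩ := IsCyclic.exists_monoid_generator (α := U)
    have hgen' : ∀ g : A, ∃ i : ℕ, ∀ u ∈ U, g * u * g⁻¹ = u ^ i := by
      intro g
      obtain ⟨i, hi⟩ := Submonoid.mem_powers_iff _ _ |>.1 (hu₀ ⟨g * u₀ * g⁻¹, hUn.conj_mem _ u₀.2 g⟩)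
      refine ⟨i, fun u hu => ?_⟩
      obtain ⟨j, hj⟩ := Submonoid.mem_powers_iff _ _ |>.1 (hu₀ ⟨u, hu⟩)
      have hj' : (u₀ : A) ^ j = u := congrArg Subtype.val hj
      rw [← hj', ← conj_pow, show g * u₀ * g⁻¹ = (u₀ : A) ^ i from (congrArg Subtype.val hi).symm, ← pow_mul,
        ← pow_mul, mul_comm]
    obtain ⟨i, hi⟩ := hgen' a
    obtain ⟨j, hj⟩ := hgen' b
    have hc : (b * a)⁻¹ * (a * b) ∈ C := by
      refine Subgroup.mem_centralizer_iff.2 fun u hu => ?_
      have e1 : (a * b) * u * (a * b)⁻¹ = u ^ (j * i) := by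
        rw [show (a * b) * u * (a * b)⁻¹ = a * (b * u * b⁻¹) * a⁻¹ by group, hj u hu, hi _ (pow_mem hu j), ← pow_mul]
      have e2 : (b * a) * u * (b * a)⁻¹ = u ^ (j * i) := by
        rw [show (b * a) * u * (b * a)⁻¹ = b * (a * u * a⁻¹) * b⁻¹ by group, hi u hu, hj _ (pow_mem hu i), ← pow_mul,
          mul_comm]
      calc u * ((b * a)⁻¹ * (a * b)) = (b * a)⁻¹ * ((b * a) * u * (b * a)⁻¹) * (a * b) := by group
        _ = (b * a)⁻¹ * ((a * b) * u * (a * b)⁻¹) * (a * b) := by rw [e1, e2]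
        _ = (b * a)⁻¹ * (a * b) * u := by group
    have hfix : ((b * a)⁻¹ * (a * b)) • v = v := by
      rw [mul_smul, mul_smul, hb, ha, inv_smul_eq_iff, mul_smul, ha, hb]
    have h1 : (b * a)⁻¹ * (a * b) = 1 := by
      by_contra hne
      exact hv0 (F₀.eq_zero_of_smul_eq (hv _ hc hfix) hne hfix)
    rw [← mul_smul, ← mul_smul, inv_mul_eq_one.1 h1]
  by_cases hC : C = U
  · obtain ⟨v, hv⟩ := hnt
    exact ⟨v, hv, fun g hg _ => hC ▸ hg⟩
  -- the section
  haveI hCn : C.Normal := (inferInstance : (Subgroup.centralizer (U : Set A)).Normal)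
  let S : Set (Subgroup A) := {E : Subgroup A | E.Normal ∧ U < E ∧ E ≤ C ∧
    ∀ W : Subgroup A, W.Normal → U ≤ W → W ≤ E → W = U ∨ W = E}
  set F : Subgroup A := U ⊔ sSup S with hF
  have hFC : F ≤ C := sup_le hUC (sSup_le fun E hE => hE.2.2.1)
  have hUF : U ≤ F := le_sup_left
  have hFn : F.Normal := by
    refine ⟨fun x hx g => ?_⟩
    have : F ≤ F.comap (MulAut.conj g).toMonoidHom := sup_le
      (fun u hu => Subgroup.mem_sup_left (hUn.conj_mem u hu g))
      (sSup_le fun E hE y hy => Subgroup.mem_sup_right (le_sSup hE (hE.1.conj_mem y hy g)))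
    exact this hx
  have hex : ∀ B : Subgroup A, B.Normal → U < B → B ≤ C → ∃ E ∈ S, E ≤ B := by
    intro B hB hUB hBC
    obtain ⟨E, ⟨hEn, hUE, hEB⟩, hEmin⟩ := Set.Finite.exists_minimal
      (s := {E : Subgroup A | E.Normal ∧ U < E ∧ E ≤ B}) (Set.toFinite _) ⟨B, hB, hUB, le_rfl⟩
    refine ⟨E, ⟨hEn, hUE, hEB.trans hBC, fun W hW hUW hWE => ?_⟩, hEB⟩
    rcases eq_or_lt_of_le hUW with h | h
    · exact Or.inl h.symm
    · exact Or.inr (le_antisymm hWE (hEmin ⟨hW, h, hWE.trans hEB⟩ hWE))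
  let q := QuotientGroup.mk' U
  have hq1 : ∀ {x : A}, q x = 1 ↔ x ∈ U := fun {x} => QuotientGroup.eq_one_iff x
  have hpair : ∀ E ∈ S, ∀ E' ∈ S, ∀ x ∈ E, ∀ y ∈ E', ⁅x, y⁆ ∈ U := by
    intro E hE E' hE' x hx y hy
    haveI := hE.1
    haveI := hE'.1
    have hxy : ⁅x, y⁆ ∈ ⁅E, E'⁆ ⊔ U := Subgroup.mem_sup_left (Subgroup.commutator_mem_commutator hx hy)
    have hle : ⁅E, E'⁆ ⊔ U ≤ E :=
      sup_le ((Subgroup.commutator_mono le_rfl le_top).trans (Subgroup.commutator_le_left E ⊤)) hE.2.1.le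
    rcases hE.2.2.2 _ inferInstance le_sup_right hle with h | h
    · rwa [h] at hxy
    exfalso
    have hle' : E ≤ E' := by
      rw [← h]
      exact sup_le ((Subgroup.commutator_mono le_top le_rfl).trans (Subgroup.commutator_le_right ⊤ E')) hE'.2.1.le
    rcases hE'.2.2.2 E hE.1 hE.2.1.le hle' with h' | h'
    · exact hE.2.1.ne h'.symm
    subst h'
    have hperf : ⁅E.map q, E.map q⁆ = E.map q := by
      conv_rhs => rw [← h, Subgroup.map_sup, QuotientGroup.map_mk'_self, sup_bot_eq]
      rw [Subgroup.map_commutator]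
    haveI : Group.IsSolvable (A ⧸ U) := solvable_of_surjective (QuotientGroup.mk'_surjective U)
    by_cases hb : E.map q = ⊥
    · rw [Subgroup.map_eq_bot_iff, QuotientGroup.ker_mk'] at hb
      exact lt_irrefl _ (lt_of_lt_of_le hE.2.1 hb)
    · exact (IsSolvable.commutator_lt_of_ne_bot hb).ne hperf
  have hcomm : ∀ x ∈ F, ∀ y ∈ F, ⁅x, y⁆ ∈ U := by
    have hc2 : ∀ {x y : A}, ⁅x, y⁆ ∈ U → q x * q y = q y * q x := fun {x y} h => by
      rw [← commutatorElement_eq_one_iff_mul_comm, ← map_commutatorElement]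
      exact hq1.2 h
    have step : ∀ y : A, (∀ E ∈ S, ∀ x ∈ E, q x * q y = q y * q x) → ∀ x ∈ F, q x * q y = q y * q x := by
      intro y hy x hx
      have : F ≤ (Subgroup.centralizer ({q y} : Set (A ⧸ U))).comap q := sup_le
        (fun u hu => by
          rw [Subgroup.mem_comap, Subgroup.mem_centralizer_singleton_iff, hq1.2 hu, one_mul, mul_one])
        (sSup_le fun E hE z hz => by
          rw [Subgroup.mem_comap, Subgroup.mem_centralizer_singleton_iff]
          exact hy E hE z hz)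
      have h := this hx
      rwa [Subgroup.mem_comap, Subgroup.mem_centralizer_singleton_iff] at h
    intro x hx y hy
    refine hq1.1 ?_
    rw [map_commutatorElement, commutatorElement_eq_one_iff_mul_comm]
    exact step y (fun E hE z hz => (step z (fun E' hE' w hw => hc2 (hpair E' hE' E hE w hw z hz)) y hy).symm) x hx
  have P : Pairing U C F := by
    refine ⟨hUn, hFn, hCn, hUF, hFC, hcentral, hcomm, fun g hg hgF => ?_⟩
    haveI := hFn
    have hZ : F ⊓ Subgroup.centralizer (F : Set A) = U := hmax _ inferInstance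
      (fun u hu => ⟨hUF hu, Subgroup.mem_centralizer_iff.2 fun x hx => hcentral x (hFC hx) u hu⟩)
      (fun a ha b hb => Subgroup.mem_centralizer_iff.1 hb.2 a ha.1)
    set B := C ⊓ Subgroup.centralizer (F : Set A) with hB
    have hUB : U ≤ B := fun u hu => ⟨hUC hu, Subgroup.mem_centralizer_iff.2 fun x hx => hcentral x (hFC hx) u hu⟩
    rcases eq_or_lt_of_le hUB with h | h
    · rw [h]
      exact ⟨hg, Subgroup.mem_centralizer_iff.2 fun x hx => (hgF x hx).symm⟩
    · exfalso
      obtain ⟨E, hE, hEB⟩ := hex B inferInstance h inf_le_left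
      exact hE.2.1.not_ge fun x hx => hZ ▸ ⟨Subgroup.mem_sup_right (le_sSup hE hx), (hEB hx).2⟩
  have hne : U ≠ F := by
    intro e
    obtain ⟨E, hE, -⟩ := hex C hCn (lt_of_le_of_ne hUC (Ne.symm hC)) le_rfl
    exact hE.2.1.not_ge (((le_sSup hE).trans le_sup_right).trans e.ge)
  have hgen : F = U ⊔ sSup {E : Subgroup A | E.Normal ∧ U < E ∧ E ≤ F ∧
      ∀ W : Subgroup A, W.Normal → U ≤ W → W ≤ E → W = U ∨ W = E} := by
    refine le_antisymm (sup_le le_sup_left (sSup_le fun E hE => ?_)) (sup_le hUF (sSup_le fun E hE => hE.2.2.1))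
    exact (le_sSup (s := {E : Subgroup A | E.Normal ∧ U < E ∧ E ≤ F ∧
      ∀ W : Subgroup A, W.Normal → U ≤ W → W ≤ E → W = U ∨ W = E})
      (a := E) ⟨hE.1, hE.2.1, (le_sSup hE).trans le_sup_right, hE.2.2.2⟩).trans le_sup_right
  -- the field of scalars
  haveI : Nontrivial (scalars V U) := ⟨⟨0, 1, fun e => hnt.choose_spec (by
    have h := congrArg (fun s : scalars V U => (s : AddMonoid.End V) hnt.choose) e
    exact h.symm)⟩⟩
  have hK : IsField (scalars V U) :=
    { exists_pair_ne := exists_pair_ne _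
      mul_comm := fun a b => Subtype.ext (scalars_comm hUc a.2 b.2)
      mul_inv_cancel := fun {a} ha => by
        obtain ⟨s', hs', e⟩ := h a a.2 fun e => ha (Subtype.ext e)
        exact ⟨⟨s', hs'⟩, Subtype.ext e⟩ }
  letI : Field (scalars V U) := hK.toField
  haveI : Finite (AddMonoid.End V) := Finite.of_injective (fun f => (f : V → V)) DFunLike.coe_injective
  have hlin : ∀ g ∈ C, ∀ (c : scalars V U) (v : V), g • c • v = c • g • v := by
    intro g hg c v
    have h := commute_of_mem_scalars (f := endo A V g)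
      (fun u hu => by rw [← map_mul, ← map_mul, hcentral g hg u hu]) c.2
    exact DFunLike.congr_fun h v
  let φ : U →* scalars V U :=
    { toFun := fun u => ⟨endo A V u, endo_mem_scalars u.2⟩
      map_one' := Subtype.ext (map_one _)
      map_mul' := fun a b => Subtype.ext (map_mul _ _ _) }
  exact exists_regular hA hV P hne hgen (K := scalars V U) hnt hlin φ
    (fun a b h => Subtype.ext (F₀.endo_inj (congrArg Subtype.val h))) fun _ _ => rfl

theorem abHyp : ∀ N : ℕ, AbHyp.{u} N := by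
  intro N
  induction N using Nat.strong_induction_on with
  | _ N ih =>
    intro A V _ _ _ _ _ hA hV hcard hcr
    have hN : 0 < N := lt_of_lt_of_le Nat.card_pos hcard
    refine abOn_of_irr (fun W hW hmin => ?_) ⊤ (fun _ _ _ _ => trivial) hcr
    letI : DistribMulAction A W :=
      { smul := fun a x => ⟨a • (x : V), hW a trivial x x.2⟩
        one_smul := fun x => Subtype.ext (one_smul A (x : V))
        mul_smul := fun a b x => Subtype.ext (mul_smul a b (x : V))
        smul_zero := fun a => Subtype.ext (smul_zero a)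
        smul_add := fun a x y => Subtype.ext (smul_add a (x : V) y) }
    let φ := MulAction.toPermHom A W
    let A' := A ⧸ φ.ker
    letI : MulAction A' W := MulAction.compHom W (QuotientGroup.kerLift φ)
    have hψ : ∀ a : A, ∀ x : W, (QuotientGroup.mk a : A') • x = a • x := fun a x => rfl
    letI : DistribMulAction A' W :=
      { (inferInstance : MulAction A' W) with
        smul_zero := fun a' => QuotientGroup.induction_on a' fun a => (hψ a 0).trans (smul_zero a)
        smul_add := fun a' x y => QuotientGroup.induction_on a' fun a => by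
          show (QuotientGroup.mk a : A') • (x + y) = (QuotientGroup.mk a : A') • x + (QuotientGroup.mk a : A') • y
          rw [hψ, hψ, hψ, smul_add] }
    have hirr : Irr A' W := by
      intro Y hY
      rcases hmin (Y.map W.subtype) (by rintro _ ⟨y, -, rfl⟩; exact y.2) (by
        rintro a - _ ⟨y, hy, rfl⟩
        exact ⟨_, hY (QuotientGroup.mk a) trivial y hy, by rw [hψ]; rfl⟩) with h | h
      · refine Or.inl ((AddSubgroup.eq_bot_iff_forall _).2 fun y hy => Subtype.ext ?_)
        have h' : (y : V) ∈ Y.map W.subtype := ⟨y, hy, rfl⟩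
        rwa [h, AddSubgroup.mem_bot] at h'
      · refine Or.inr (eq_top_iff.2 fun y _ => ?_)
        obtain ⟨z, hz, e⟩ : (y : V) ∈ Y.map W.subtype := by rw [h]; exact y.2
        rwa [show z = y from Subtype.ext e] at hz
    obtain ⟨v, -, hb⟩ := abOn_irreducible (A := A') (V := W)
      (hA.of_dvd_nat (Subgroup.card_quotient_dvd_card _)) (hV.of_dvd_nat W.card_addSubgroup_dvd_card)
      (le_trans (Nat.le_of_dvd Nat.card_pos (Subgroup.card_quotient_dvd_card _)) hcard) (ih (N - 1) (by omega))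
      (fun a' h => QuotientGroup.kerLift_injective φ (by rw [map_one]; exact Equiv.ext h)) hirr
    refine ⟨v, v.2, fun a _ b _ ha hb' x hx => ?_⟩
    exact congrArg Subtype.val (hb (QuotientGroup.mk a) trivial (QuotientGroup.mk b) trivial (Subtype.ext ha)
      (Subtype.ext hb') ⟨x, hx⟩ trivial)

/-- an odd group acting completely reducibly on an odd abelian group: some abelian stabiliser -/
theorem exists_abelian_stabilizer {A : Type*} {V : Type u} [Group A] [Finite A] [AddCommGroup V] [Finite V]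
    [DistribMulAction A V] [FaithfulSMul A V] (hA : Odd (Nat.card A)) (hp : Odd (Nat.card V))
    (hcr : CROn (⊤ : Subgroup A) (⊤ : AddSubgroup V)) :
    ∃ v : V, IsMulCommutative (MulAction.stabilizer A v) := by
  let φ := MulAction.toPermHom A V
  let A' := φ.range
  letI : DistribMulAction A' V :=
    { smul := fun g x => (g : Equiv.Perm V) x
      one_smul := fun x => rfl
      mul_smul := fun g h x => rfl
      smul_zero := fun g => by obtain ⟨_, a, rfl⟩ := g; exact smul_zero a
      smul_add := fun g x y => by obtain ⟨_, a, rfl⟩ := g; exact smul_add a x y }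
  have hodd : Odd (Nat.card A') := hA.of_dvd_nat (Subgroup.card_range_dvd φ)
  have hcr' : CROn (⊤ : Subgroup A') (⊤ : AddSubgroup V) := by
    intro X hX hXi
    obtain ⟨Y, hY, hYi, h1, h2⟩ := hcr X hX (fun a _ x hx => hXi ⟨φ a, a, rfl⟩ trivial x hx)
    exact ⟨Y, hY, fun a' _ x hx => by
      obtain ⟨_, a, rfl⟩ := a'
      exact hYi a trivial x hx, h1, h2⟩
  obtain ⟨v, -, h⟩ := abHyp.{u} (Nat.card A') A' V hodd hp le_rfl hcr'
  refine ⟨v, ⟨⟨fun a b => Subtype.ext (eq_of_smul_eq_smul (α := V) fun x => ?_)⟩⟩⟩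
  rw [Subgroup.coe_mul, Subgroup.coe_mul, mul_smul, mul_smul]
  exact h ⟨φ a, (a : A), rfl⟩ trivial ⟨φ b, (b : A), rfl⟩ trivial a.2 b.2 x trivial

end CfsgLib.Perm.DlNine.Odd
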