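import Cfsg.Agent.Lib.Perm.DlNine.Odd.Frame

/-!
Bounds for the group induced on the section: a base of two, semiregularity in the small cases.
-/

set_option autoImplicit false
set_option linter.style.haveILetI false
set_option linter.unusedSectionVars false

namespace CfsgLib.Perm.DlNine.Odd

open scoped commutatorElement

universe u

variable {A : Type u} [Group A]

namespace Pairing

variable {U C F : Subgroup A} (P : Pairing U C F)
include P

/-- two elements of the section only fixed together by the kernel -/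
theorem exists_base [Finite A] (hA : Odd (Nat.card A))
    (hgen : F = U ⊔ sSup {E : Subgroup A | E.Normal ∧ U < E ∧ E ≤ F ∧
      ∀ N : Subgroup A, N.Normal → U ≤ N → N ≤ E → N = U ∨ N = E}) (hne : U ≠ F) :
    ∃ x ∈ F, x ∉ U ∧ ∃ y ∈ F, ∀ g ∈ C, ⁅g, x⁆ ∈ U → ⁅g, y⁆ ∈ U → g ∈ P.ker := by
  classical
  haveI := P.normalU
  haveI := P.normal
  let q := QuotientGroup.mk' U
  let Q : Subgroup (A ⧸ U) := F.map q
  haveI : Q.Normal := P.normal.map q (QuotientGroup.mk'_surjective U)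
  have hQc : ∀ a b : Q, a * b = b * a := by
    rintro ⟨_, a, ha, rfl⟩ ⟨_, b, hb, rfl⟩
    refine Subtype.ext ?_
    show q a * q b = q b * q a
    rw [← map_mul, ← map_mul, ← mul_inv_eq_one, ← map_inv, ← map_mul]
    refine (QuotientGroup.eq_one_iff _).2 ?_
    have := P.comm a ha b hb
    rwa [commutatorElement_def, show a * b * a⁻¹ * b⁻¹ = a * b * (b * a)⁻¹ by group] at this
  letI : CommGroup Q := { (inferInstance : Group Q) with mul_comm := hQc }
  letI : DistribMulAction C (Additive Q) :=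
    { smul := fun g x => Additive.ofMul ⟨q g * (x.toMul : Q) * (q g)⁻¹,
        (inferInstance : Q.Normal).conj_mem _ x.toMul.2 _⟩
      one_smul := fun x => Additive.toMul.injective (Subtype.ext
        (show q ((1 : C) : A) * _ * (q ((1 : C) : A))⁻¹ = _ by simp))
      mul_smul := fun a b x => Additive.toMul.injective (Subtype.ext (by
        show q ((a * b : C) : A) * _ * (q ((a * b : C) : A))⁻¹ =
          q (a : A) * (q (b : A) * _ * (q (b : A))⁻¹) * (q (a : A))⁻¹
        rw [Subgroup.coe_mul, map_mul]; group))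
      smul_zero := fun a => Additive.toMul.injective (Subtype.ext
        (show q (a : A) * (1 : A ⧸ U) * (q (a : A))⁻¹ = 1 by group))
      smul_add := fun a x y => Additive.toMul.injective (Subtype.ext
        (show q (a : A) * ((x.toMul : Q) * (y.toMul : Q) : A ⧸ U) * (q (a : A))⁻¹ =
          (q (a : A) * (x.toMul : Q) * (q (a : A))⁻¹) * (q (a : A) * (y.toMul : Q) * (q (a : A))⁻¹) by group)) }
  have hfix : ∀ (g : C) {x : A} (hx : x ∈ F),
      g • (Additive.ofMul (⟨q x, x, hx, rfl⟩ : Q)) = Additive.ofMul (⟨q x, x, hx, rfl⟩ : Q) ↔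
        ⁅(g : A), x⁆ ∈ U := by
    intro g x hx
    rw [← P.fix_iff hx]
    constructor
    · intro h
      have h2 := congrArg (fun z : Additive Q => ((z.toMul : Q) : A ⧸ U)) h
      show q (g * x * (g : A)⁻¹) = q x
      rw [map_mul, map_mul, map_inv]
      exact h2
    · intro h
      refine Additive.toMul.injective (Subtype.ext ?_)
      show q g * q x * (q g)⁻¹ = q x
      rw [← map_inv, ← map_mul, ← map_mul]
      exact h
  have hcr : BaseTwo.CROn (⊤ : Subgroup C) (⊤ : AddSubgroup (Additive Q)) := by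
    intro W _ hW
    let Y : Subgroup A := (W.toSubgroup'.map Q.subtype).comap q
    have hmem : ∀ {y : A} (hy : y ∈ F), y ∈ Y ↔ Additive.ofMul (⟨q y, y, hy, rfl⟩ : Q) ∈ W := by
      intro y hy
      constructor
      · rintro ⟨z, hz, e⟩
        rw [show z = ⟨q y, y, hy, rfl⟩ from Subtype.ext e] at hz
        exact hz
      · exact fun h => ⟨_, h, rfl⟩
    have hYF : Y ≤ F := by
      intro y hy
      obtain ⟨⟨_, z, hz, rfl⟩, -, e⟩ := hy
      have h := (QuotientGroup.eq (s := U)).1 e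
      rw [show y = z * (z⁻¹ * y) by group]
      exact mul_mem hz (P.le h)
    have hUY : U ≤ Y := fun u hu => ⟨1, one_mem _, ((QuotientGroup.eq_one_iff u).2 hu).symm⟩
    have hYst : Stab C Y := fun g hg y hy => by
      have h1 := hW ⟨g, hg⟩ trivial _ ((hmem (hYF hy)).1 hy)
      refine (hmem (P.normal.conj_mem y (hYF hy) g)).2 ?_
      convert h1 using 1
      refine Additive.toMul.injective (Subtype.ext ?_)
      show q (g * y * g⁻¹) = q g * q y * (q g)⁻¹
      rw [map_mul, map_mul, map_inv]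
    obtain ⟨Y', hUY', hY'F, hY', hinf, hsup⟩ := P.exists_compl hgen hUY hYF hYst
    let W' : AddSubgroup (Additive Q) := (((Y'.map q).comap Q.subtype)).toAddSubgroup
    have hmem' : ∀ {y : A} (hy : y ∈ F), y ∈ Y' ↔ Additive.ofMul (⟨q y, y, hy, rfl⟩ : Q) ∈ W' := by
      intro y hy
      constructor
      · exact fun h => ⟨y, h, rfl⟩
      · rintro ⟨z, hz, e⟩
        have h := (QuotientGroup.eq (s := U)).1 e
        rw [show y = z * (z⁻¹ * y) by group]
        exact mul_mem hz (hUY' h)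
    refine ⟨W', le_top, fun g _ z hz => ?_, (AddSubgroup.eq_bot_iff_forall _).2 fun z hz => ?_, ?_⟩
    · obtain ⟨⟨_, y, hy, rfl⟩, rfl⟩ := Additive.ofMul.surjective z
      have h := hY' g g.2 y ((hmem' hy).2 hz)
      have h' := (hmem' (P.normal.conj_mem y hy g)).1 h
      convert h' using 1
      refine Additive.toMul.injective (Subtype.ext ?_)
      show q g * q y * (q g)⁻¹ = q (g * y * (g : A)⁻¹)
      rw [map_mul, map_mul, map_inv]
    · obtain ⟨⟨_, y, hy, rfl⟩, rfl⟩ := Additive.ofMul.surjective z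
      have h : y ∈ Y ⊓ Y' := ⟨(hmem hy).2 hz.1, (hmem' hy).2 hz.2⟩
      rw [hinf] at h
      exact Additive.toMul.injective (Subtype.ext ((QuotientGroup.eq_one_iff y).2 h))
    · refine eq_top_iff.2 fun z _ => ?_
      obtain ⟨⟨_, y, hy, rfl⟩, rfl⟩ := Additive.ofMul.surjective z
      have hy' : y ∈ Y ⊔ Y' := by rw [hsup]; exact hy
      let T : Subgroup A :=
        { carrier := {w | ∃ hw : w ∈ F, Additive.ofMul (⟨q w, w, hw, rfl⟩ : Q) ∈ W ⊔ W'}
          one_mem' := ⟨one_mem F, by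
            convert zero_mem (W ⊔ W') using 1
            exact Additive.toMul.injective (Subtype.ext (map_one q))⟩
          mul_mem' := fun {a b} ⟨ha, ha'⟩ ⟨hb, hb'⟩ => ⟨mul_mem ha hb, by
            convert add_mem ha' hb' using 1
            exact Additive.toMul.injective (Subtype.ext (map_mul q a b))⟩
          inv_mem' := fun {a} ⟨ha, ha'⟩ => ⟨inv_mem ha, by
            convert neg_mem ha' using 1
            exact Additive.toMul.injective (Subtype.ext (map_inv q a))⟩ }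
      have hT : Y ⊔ Y' ≤ T := sup_le
        (fun w hw => ⟨hYF hw, AddSubgroup.mem_sup_left ((hmem (hYF hw)).1 hw)⟩)
        (fun w hw => ⟨hY'F hw, AddSubgroup.mem_sup_right ((hmem' (hY'F hw)).1 hw)⟩)
      exact (hT hy').2
  have hodd : Odd (Nat.card C) := BaseTwo.odd_subgroup hA C
  obtain ⟨v, -, w, -, -, hv0, hb⟩ := ((BaseTwo.hyps.{u} (Nat.card C)).1 C (Additive Q) hodd le_rfl hcr).ne
    (fun e => by
      obtain ⟨x, hx, hxU⟩ := SetLike.exists_of_lt (lt_of_le_of_ne P.le hne)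
      have h : Additive.ofMul (⟨q x, x, hx, rfl⟩ : Q) ∈ (⊤ : AddSubgroup (Additive Q)) := trivial
      rw [e, AddSubgroup.mem_bot] at h
      exact hxU ((QuotientGroup.eq_one_iff x).1 (congrArg (fun z : Additive Q => ((z.toMul : Q) : A ⧸ U)) h)))
  obtain ⟨⟨_, x, hx, rfl⟩, rfl⟩ := Additive.ofMul.surjective v
  obtain ⟨⟨_, y, hy, rfl⟩, rfl⟩ := Additive.ofMul.surjective w
  refine ⟨x, hx, fun hxU => hv0 (Additive.toMul.injective (Subtype.ext ((QuotientGroup.eq_one_iff x).2 hxU))),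
    y, hy, fun g hg h1 h2 => ⟨hg, fun z hz => ?_⟩⟩
  exact (hfix ⟨g, hg⟩ hz).1 (hb ⟨g, hg⟩ trivial ((hfix ⟨g, hg⟩ hx).2 h1) ((hfix ⟨g, hg⟩ hy).2 h2) _ trivial)

/-- the stabiliser of a point of the section -/
def fixer (x : A) (hx : x ∈ F) : Subgroup A where
  carrier := {g | g ∈ C ∧ ⁅g, x⁆ ∈ U}
  one_mem' := ⟨one_mem C, by rw [commutatorElement_one_left]; exact one_mem U⟩
  mul_mem' := fun {a b} ha hb => ⟨mul_mem ha.1 hb.1, by rw [P.mul_left ha.1 hx hb.2]; exact mul_mem ha.2 hb.2⟩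
  inv_mem' := fun {a} ha => ⟨inv_mem ha.1, by rw [P.inv_left ha.1 hx ha.2]; exact inv_mem ha.2⟩

theorem mem_fixer {x : A} {hx : x ∈ F} {g : A} : g ∈ P.fixer x hx ↔ g ∈ C ∧ ⁅g, x⁆ ∈ U := Iff.rfl

theorem mem_fixer_of_eq {x : A} {hx : x ∈ F} {g g' : A} (hg : g ∈ C) (hg' : g' ∈ C)
    (h : (QuotientGroup.mk (g * x * g⁻¹) : A ⧸ U) = QuotientGroup.mk (g' * x * g'⁻¹)) :
    g⁻¹ * g' ∈ P.fixer x hx := by
  haveI := P.normalU
  refine ⟨mul_mem (inv_mem hg) hg', (P.fix_iff hx).1 ?_⟩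
  have h' := congrArg (fun z => (QuotientGroup.mk g⁻¹ : A ⧸ U) * z * QuotientGroup.mk g) h
  simp only [← QuotientGroup.mk_mul] at h'
  convert h'.symm using 2 <;> group

/-- the orbit bound -/
theorem six_mul_le [Finite A] (hA : Odd (Nat.card A))
    (hgen : F = U ⊔ sSup {E : Subgroup A | E.Normal ∧ U < E ∧ E ≤ F ∧
      ∀ N : Subgroup A, N.Normal → U ≤ N → N ≤ E → N = U ∨ N = E}) (hne : U ≠ F) :
    6 * P.ker.relIndex C ≤ U.relIndex F * U.relIndex F := by
  classical
  haveI := P.normalU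
  obtain ⟨x, hx, hxU, y, hy, hb⟩ := P.exists_base hA hgen hne
  let q := QuotientGroup.mk' U
  let Q : Subgroup (A ⧸ U) := F.map q
  have hMcard : Nat.card Q = U.relIndex F := by
    have h1 := Subgroup.relIndex_map_map q U F
    rw [QuotientGroup.ker_mk', sup_idem, sup_of_le_left P.le, QuotientGroup.map_mk'_self,
      Subgroup.relIndex_bot_left] at h1
    exact h1
  set G₁ := P.fixer x hx with hG₁
  have hG₁C : G₁ ≤ C := fun g hg => hg.1
  have hkG₁ : P.ker ≤ G₁ := fun g hg => ⟨hg.1, hg.2 x hx⟩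
  -- the first orbit misses its inverse
  have h1 : 2 * G₁.relIndex C ≤ U.relIndex F := by
    let O : Set (A ⧸ U) := {z | ∃ g ∈ C, z = q (g * x * g⁻¹)}
    have hle := relIndex_le_card G₁ C O (Set.toFinite _) (fun g => q (g * x * g⁻¹)) (fun g hg => ⟨g, hg, rfl⟩)
      fun g hg g' hg' e => P.mem_fixer_of_eq hg hg' e
    have hdisj : ∀ z ∈ O, z⁻¹ ∉ O := by
      rintro _ ⟨g, hg, rfl⟩ ⟨g', hg', e⟩
      -- `k` inverts `x` modulo `U`, so its square fixes `x`, so `k` fixes `x`
      set k := g'⁻¹ * g with hk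
      have hk1 : q k * q x * (q k)⁻¹ = (q x)⁻¹ := by
        have e' : (q g * q x * (q g)⁻¹)⁻¹ = q g' * q x * (q g')⁻¹ := by simpa only [map_mul, map_inv] using e
        rw [hk, map_mul, map_inv]
        calc (q g')⁻¹ * q g * q x * ((q g')⁻¹ * q g)⁻¹ = (q g')⁻¹ * (q g * q x * (q g)⁻¹) * q g' := by group
          _ = (q g')⁻¹ * (q g' * q x * (q g')⁻¹)⁻¹ * q g' := by rw [← e', inv_inv]
          _ = _ := by group
      have hkk : k ^ 2 ∈ (Subgroup.centralizer ({q x} : Set (A ⧸ U))).comap q := by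
        rw [Subgroup.mem_comap, Subgroup.mem_centralizer_singleton_iff, map_pow, sq]
        have : q k * q k * q x * (q k * q k)⁻¹ = q x := by
          rw [show q k * q k * q x * (q k * q k)⁻¹ = q k * (q k * q x * (q k)⁻¹) * (q k)⁻¹ by group, hk1]
          calc q k * (q x)⁻¹ * (q k)⁻¹ = (q k * q x * (q k)⁻¹)⁻¹ := by group
            _ = q x := by rw [hk1, inv_inv]
        exact mul_inv_eq_iff_eq_mul.1 this
      have hk2 := BaseTwo.eq_of_sq hA _ hkk
      rw [Subgroup.mem_comap, Subgroup.mem_centralizer_singleton_iff] at hk2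
      rw [hk2, mul_inv_cancel_right] at hk1
      have hx2 : x ^ 2 ∈ U := (QuotientGroup.eq_one_iff _).1 (by
        show q (x ^ 2) = 1
        rw [map_pow, sq]
        nth_rw 1 [hk1]
        exact inv_mul_cancel _)
      exact hxU (BaseTwo.eq_of_sq hA U hx2)
    have hsub : O ∪ (fun z => z⁻¹) '' O ⊆ (Q : Set (A ⧸ U)) := by
      rintro z (⟨g, hg, rfl⟩ | ⟨_, ⟨g, hg, rfl⟩, rfl⟩)
      · exact ⟨_, P.normal.conj_mem x hx g, rfl⟩
      · exact inv_mem ⟨_, P.normal.conj_mem x hx g, rfl⟩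
    have hd : Disjoint O ((fun z => z⁻¹) '' O) := Set.disjoint_left.2 fun z hz hz' => by
      obtain ⟨w, hw, rfl⟩ := hz'
      exact hdisj w hw hz
    have := Set.ncard_le_ncard hsub (Set.toFinite _)
    rw [Set.ncard_union_eq hd, Set.ncard_image_of_injective _ inv_injective] at this
    rw [Nat.card_coe_set_eq] at hle
    rw [← hMcard, show Nat.card Q = (Q : Set (A ⧸ U)).ncard from Nat.card_coe_set_eq (Q : Set (A ⧸ U))]
    calc 2 * G₁.relIndex C ≤ O.ncard + O.ncard := by omega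
      _ ≤ _ := this
  -- the second orbit keeps the pairing with `x`
  have h2 : 3 * P.ker.relIndex G₁ ≤ U.relIndex F := by
    let O : Set (A ⧸ U) := {z | ∃ y' ∈ F, z = q y' ∧ ⁅x, y'⁆ = ⁅x, y⁆}
    have hle := relIndex_le_card P.ker G₁ O (Set.toFinite _) (fun g => q (g * y * g⁻¹)) (fun g hg =>
        ⟨g * y * g⁻¹, P.normal.conj_mem y hy g, rfl, by
          have hgy : g * y * g⁻¹ ∈ C := P.leC (P.normal.conj_mem y hy g)
          have e1 : g * x * g⁻¹ = ⁅g, x⁆ * x := by simp [commutatorElement_def]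
          calc ⁅x, g * y * g⁻¹⁆ = ⁅⁅g, x⁆ * x, g * y * g⁻¹⁆ := by
                rw [P.mul_left (P.memC hg.2) (P.normal.conj_mem y hy g) (P.comm x hx _ (P.normal.conj_mem y hy g)),
                  P.comm_one_of_mem' hgy hg.2, one_mul]
            _ = g * ⁅x, y⁆ * g⁻¹ := by rw [← e1]; simp only [commutatorElement_def]; group
            _ = ⁅x, y⁆ := by rw [P.central g hg.1 _ (P.comm x hx y hy), mul_inv_cancel_right]⟩)
      fun g hg g' hg' e => by
        have h := mul_mem (inv_mem hg) hg'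
        refine hb _ h.1 h.2 (P.mem_fixer_of_eq (hx := hy) hg.1 hg'.1 e).2
    obtain ⟨w, hw, hxw⟩ : ∃ w ∈ F, ⁅x, w⁆ ≠ 1 := by
      by_contra hno
      push Not at hno
      exact hxU (P.sep x (P.leC hx) fun y hy => commutatorElement_eq_one_iff_mul_comm.1 (hno y hy))
    let f : O × Fin 3 → Q := fun z => ⟨z.1.1 * q w ^ (z.2 : ℕ), mul_mem (by
      obtain ⟨y', hy', e, -⟩ := z.1.2
      exact ⟨y', hy', e.symm⟩) (pow_mem (show q w ∈ Q from ⟨w, hw, rfl⟩) _)⟩
    have hval : ∀ {y' : A}, y' ∈ F → ∀ i : ℕ, ⁅x, y' * w ^ i⁆ = ⁅x, y'⁆ * ⁅x, w⁆ ^ i := by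
      intro y' hy' i
      induction i with
      | zero => simp
      | succ i ih =>
        rw [pow_succ, ← mul_assoc, P.mul_right (P.leC (mul_mem hy' (pow_mem hw i))) (P.comm x hx w hw), ih,
          mul_assoc, ← pow_succ]
    have hinj : Function.Injective f := by
      rintro ⟨⟨z, y₁, hy₁, rfl, e₁⟩, i⟩ ⟨⟨z', y₂, hy₂, rfl, e₂⟩, j⟩ e
      have e' : q (y₁ * w ^ (i : ℕ)) = q (y₂ * w ^ (j : ℕ)) := by
        rw [map_mul, map_mul, map_pow, map_pow]; exact congrArg Subtype.val e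
      have h := (QuotientGroup.eq (s := U)).1 e'
      have hm : ⁅x, y₁ * w ^ (i : ℕ)⁆ = ⁅x, y₂ * w ^ (j : ℕ)⁆ := by
        conv_rhs => rw [show y₂ * w ^ (j : ℕ) = (y₁ * w ^ (i : ℕ)) * ((y₁ * w ^ (i : ℕ))⁻¹ * (y₂ * w ^ (j : ℕ))) by group]
        rw [P.mul_right (P.leC (mul_mem hy₁ (pow_mem hw _))) (by rw [P.comm_one_of_mem (P.leC hx) h]; exact one_mem U),
          P.comm_one_of_mem (P.leC hx) h, mul_one]
      rw [hval hy₁, hval hy₂, e₁, e₂, mul_right_inj, pow_inj_mod] at hm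
      have h3 : 3 ≤ orderOf ⁅x, w⁆ := by
        have h0 := orderOf_pos ⁅x, w⁆
        have h1 : Odd (orderOf ⁅x, w⁆) := hA.of_dvd_nat (orderOf_dvd_natCard _)
        have h2 : orderOf ⁅x, w⁆ ≠ 1 := fun e => hxw (orderOf_eq_one_iff.1 e)
        obtain ⟨k, hk⟩ := h1
        omega
      rw [Nat.mod_eq_of_lt (by omega), Nat.mod_eq_of_lt (by omega)] at hm
      have hij : i = j := Fin.ext hm
      subst hij
      refine Prod.ext (Subtype.ext ?_) rfl
      exact mul_right_cancel (congrArg Subtype.val e)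
    have hcard := Nat.card_le_card_of_injective f hinj
    rw [Nat.card_prod, Nat.card_fin, hMcard] at hcard
    omega
  rw [← Subgroup.relIndex_mul_relIndex P.ker G₁ C hkG₁ hG₁C]
  calc 6 * (P.ker.relIndex G₁ * G₁.relIndex C) = (2 * G₁.relIndex C) * (3 * P.ker.relIndex G₁) := by ring
    _ ≤ _ := Nat.mul_le_mul h1 h2

end Pairing

end CfsgLib.Perm.DlNine.Odd
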