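import Cfsg.Agent.Lib.Perm.DlNine.Odd.EightyOne
import Cfsg.Agent.Lib.Perm.DlNine.Odd.Counting
import Cfsg.Agent.Lib.Perm.DlNine.Odd.Bound
import Cfsg.Agent.Lib.Perm.DlNine.Odd.Blocks

/-!
The primitive step: a vector whose stabiliser meets the centraliser of a maximal abelian normal subgroup trivially.
-/

set_option autoImplicit false
set_option linter.style.haveILetI false
set_option linter.unusedSectionVars false

namespace CfsgLib.Perm.DlNine.Odd

open scoped commutatorElement
open CfsgLib.BaseTwo Module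

universe u

variable {A V : Type u} [Group A] [Finite A] [AddCommGroup V] [Finite V] [DistribMulAction A V]

/-- the bound for the induced group in the small cases -/
theorem small_relIndex {U C F : Subgroup A} (P : Pairing U C F) (hA : Odd (Nat.card A))
    {K : Type*} [Field K] (φ : U →* K) (hφ : Function.Injective φ)
    (hgen : F = U ⊔ sSup {E : Subgroup A | E.Normal ∧ U < E ∧ E ≤ F ∧
      ∀ N : Subgroup A, N.Normal → U ≤ N → N ≤ E → N = U ∨ N = E})
    {e : ℕ} (he : U.relIndex F = e * e) :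
    (e = 3 → P.ker.relIndex C ≤ 1) ∧ (e = 5 → P.ker.relIndex C ≤ 3) ∧ (e = 7 → P.ker.relIndex C ≤ 3) ∧
      (e = 9 → P.ker.relIndex C ≤ 5) ∧ (e = 11 → P.ker.relIndex C ≤ 15) := by
  classical
  have hodd : Odd (P.ker.relIndex C) :=
    (odd_subgroup hA C).of_dvd_nat (Subgroup.index_dvd_card _)
  have prime_case : ∀ r : ℕ, r.Prime → ∀ b : ℕ, (∀ d ∈ (r ^ 2 - 1).divisors, Odd d → d % r = 1 → d = 1) →
      (∀ d ∈ (r ^ 2 - 1).divisors, Odd d → d ≤ b) → e = r → P.ker.relIndex C ≤ b := by
    intro r hr b hd1 hd2 her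
    haveI := Fact.mk hr
    have hM : U.relIndex F = r ^ 2 := by rw [he, her, sq]
    have hdvd := P.dvd_sub_one hA hgen (r := r) (k := 2) two_ne_zero hM hd1 (P.stab_two hM)
    have h1 := Nat.one_lt_pow two_ne_zero hr.one_lt
    exact hd2 _ (Nat.mem_divisors.2 ⟨hdvd, by omega⟩) hodd
  refine ⟨prime_case 3 Nat.prime_three 1 (by decide) (by decide),
    prime_case 5 Nat.prime_five 3 (by decide) (by decide),
    prime_case 7 (by norm_num) 3 (by decide) (by decide), fun h9 => ?_,
    prime_case 11 (by norm_num) 15 (by decide) (by decide)⟩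
  haveI := Fact.mk Nat.prime_three
  have hM : U.relIndex F = 3 ^ 4 := by rw [he, h9]; norm_num
  have hdvd := P.dvd_sub_one hA hgen (r := 3) (k := 4) (by norm_num) hM (by decide)
    (P.stab_eightyone hA φ hφ hgen hM)
  have hall : ∀ d ∈ ((3 : ℕ) ^ 4 - 1).divisors, Odd d → d ≤ 5 := by decide
  exact hall _ (Nat.mem_divisors.2 ⟨hdvd, by norm_num⟩) hodd

/-- the counting: some vector is fixed by no element of `C` outside the scalars -/
theorem exists_regular (hA : Odd (Nat.card A)) (hV : Odd (Nat.card V)) {U C F : Subgroup A} (P : Pairing U C F)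
    (hne : U ≠ F)
    (hgen : F = U ⊔ sSup {E : Subgroup A | E.Normal ∧ U < E ∧ E ≤ F ∧
      ∀ N : Subgroup A, N.Normal → U ≤ N → N ≤ E → N = U ∨ N = E})
    {K : Type u} [Field K] [Finite K] [Module K V] (hnt : ∃ v : V, v ≠ 0)
    (hlin : ∀ g ∈ C, ∀ (c : K) (v : V), g • c • v = c • g • v)
    (φ : U →* K) (hφ : Function.Injective φ) (hφs : ∀ (a : U) (v : V), φ a • v = (a : A) • v) :
    ∃ v : V, v ≠ 0 ∧ ∀ g ∈ C, g • v = v → g ∈ U := by
  classical
  haveI := P.normalU
  haveI : Module.Finite K V := Module.Finite.of_finite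
  haveI : Nontrivial V := ⟨⟨hnt.choose, 0, hnt.choose_spec⟩⟩
  haveI : Fintype A := Fintype.ofFinite A
  haveI : Fintype V := Fintype.ofFinite V
  haveI : Fintype U := Fintype.ofFinite U
  set n := finrank K V with hn
  set q := Nat.card K with hq
  have hcardV : Nat.card V = q ^ n := Module.natCard_eq_pow_finrank
  have hn0 : 0 < n := Module.finrank_pos
  have hq1 : 1 < q := Finite.one_lt_card
  have hqo : Odd q := hV.of_dvd_nat (hcardV ▸ dvd_pow_self q hn0.ne')
  obtain ⟨e, he⟩ := P.exists_sq φ hφ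
  have hMeq : U.relIndex F ≠ 0 := Subgroup.index_ne_zero_of_finite
  have hM1 : U.relIndex F ≠ 1 := fun h => hne (le_antisymm P.le (Subgroup.relIndex_eq_one.1 h))
  have heo : Odd e := by
    have : Odd (U.relIndex F) := (odd_subgroup hA F).of_dvd_nat (Subgroup.index_dvd_card _)
    rw [he] at this
    exact (Nat.odd_mul.1 this).1
  have he3 : 3 ≤ e := by
    obtain ⟨k, hk⟩ := heo
    rcases k with _ | k
    · exact absurd (by rw [he, hk]; rfl) hM1
    · omega
  -- the linear maps of the elements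
  let T : C → Module.End K V := fun g =>
    { toFun := fun v => (g : A) • v
      map_add' := smul_add (g : A)
      map_smul' := fun c v => hlin g g.2 c v }
  have hTmem : ∀ (g : C) (z : K) (v : V), v ∈ (T g).eigenspace z ↔ (g : A) • v = z • v :=
    fun g z v => Module.End.mem_eigenspace_iff
  have hdvd : ∀ r, r.Prime → r ∣ e → r ∣ q - 1 := fun r hr hre => by
    have h1 : r ∣ Nat.card U := P.dvd_card_of_dvd hr (he ▸ hre.mul_right e)
    let φ' : U →* Kˣ := φ.toHomUnits
    have h2 : Nat.card U ∣ Nat.card Kˣ := Subgroup.card_dvd_of_injective φ' fun a b h => hφ (by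
      have := congrArg Units.val h
      simpa [φ'] using this)
    rw [Nat.card_units] at h2
    exact h1.trans h2
  -- linear independence of the section
  have hen : e ≤ n := by
    let Q := F.map (QuotientGroup.mk' U)
    haveI : Fintype Q := Fintype.ofFinite Q
    choose rep hrepF hrepq using fun c : Q => c.2
    let S : Q → Module.End K V := fun c => T ⟨rep c, P.leC (hrepF c)⟩
    have hli : ∀ (s : Finset Q) (a : Q → K), (∀ v : V, ∑ c ∈ s, a c • rep c • v = 0) → ∀ c ∈ s, a c = 0 := by
      intro s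
      induction s using Finset.induction_on with
      | empty => simp
      | insert c₀ s hc₀ ih =>
        intro a ha
        have hrest : ∀ c ∈ s, a c = 0 := by
          intro c hc
          obtain ⟨y, hy, hsep⟩ : ∃ y ∈ F, ⁅y, rep c⁆ ≠ ⁅y, rep c₀⁆ := by
            by_contra hno
            push Not at hno
            have hmem : (rep c)⁻¹ * rep c₀ ∈ U := P.sep _ (P.leC (mul_mem (inv_mem (hrepF c)) (hrepF c₀)))
              fun y hy => by
                refine (commutatorElement_eq_one_iff_mul_comm.1 ?_).symm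
                rw [P.mul_right (P.leC (inv_mem (hrepF c))) (P.comm y hy _ (hrepF c₀)), ← hno y hy,
                  ← P.mul_right (P.leC (inv_mem (hrepF c))) (P.comm y hy _ (hrepF c)), inv_mul_cancel,
                  commutatorElement_one_right]
            have : c = c₀ := Subtype.ext (by rw [← hrepq c, ← hrepq c₀]; exact (QuotientGroup.eq (s := U)).2 hmem)
            exact hc₀ (this ▸ hc)
          let κ : Q → K := fun d => φ ⟨⁅y, rep d⁆, P.comm y hy _ (hrepF d)⟩
          have h := ih (fun d => a d * κ d - κ c₀ * a d) (fun v => ?_) c hc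
          · refine (mul_eq_zero.1 (show a c * (κ c - κ c₀) = 0 by rw [← h]; ring)).resolve_right fun h' => ?_
            exact hsep (congrArg Subtype.val (hφ (sub_eq_zero.1 h')))
          have h1 := congrArg (fun z => y • z) (ha (y⁻¹ • v))
          have h2 := congrArg (fun z => κ c₀ • z) (ha v)
          simp only [smul_zero, Finset.smul_sum, smul_smul] at h1 h2
          have h1' : ∑ d ∈ insert c₀ s, (a d * κ d) • rep d • v = 0 := by
            rw [← h1]
            refine Finset.sum_congr rfl fun d _ => ?_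
            rw [hlin y (P.leC hy), mul_smul, hφs]
            simp only [← mul_smul (α := A)]
            congr 2
            simp only [commutatorElement_def]; group
          have h3 : ∑ d ∈ insert c₀ s, (a d * κ d - κ c₀ * a d) • rep d • v = 0 := by
            simp only [sub_smul, Finset.sum_sub_distrib]
            rw [h1', h2, sub_zero]
          rw [Finset.sum_insert hc₀, show a c₀ * κ c₀ - κ c₀ * a c₀ = 0 by ring, zero_smul, zero_add] at h3
          exact h3
        intro c hc
        rcases Finset.mem_insert.1 hc with rfl | hc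
        · obtain ⟨v, hv⟩ := hnt
          have h := ha ((rep c)⁻¹ • v)
          rw [Finset.sum_insert hc₀, Finset.sum_eq_zero (fun d hd => by rw [hrest d hd, zero_smul]), add_zero,
            smul_inv_smul] at h
          exact (smul_eq_zero.1 h).resolve_right hv
        · exact hrest c hc
    have hS : LinearIndependent K S := by
      refine Fintype.linearIndependent_iff.2 fun a ha => fun c => hli Finset.univ a (fun v => ?_) c (Finset.mem_univ c)
      have := congrArg (fun f : Module.End K V => f v) ha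
      simp only [LinearMap.sum_apply, LinearMap.smul_apply, LinearMap.zero_apply] at this
      exact this
    have h := hS.fintype_card_le_finrank
    rw [Module.finrank_linearMap, ← hn, ← Nat.card_eq_fintype_card, P.card_section, he] at h
    exact Nat.mul_self_le_mul_self_iff.1 h
  -- fixed spaces
  let fx : A → Finset V := fun g => Finset.univ.filter fun v => v ≠ 0 ∧ g • v = v
  let dim : C → ℕ := fun g => finrank K ((T g).eigenspace 1)
  have hfx : ∀ g : C, (fx g).card = q ^ dim g - 1 := by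
    intro g
    have h : fx g = ((T g).eigenspace 1 : Set V).toFinset.erase 0 := by
      ext v
      simp [fx, hTmem]
    rw [h, Finset.card_erase_of_mem (by simp), Set.toFinset_card, ← Nat.card_eq_fintype_card]
    exact congrArg (· - 1) Module.natCard_eq_pow_finrank
  have hχ : Set.InjOn (fun a : U => φ a⁻¹) (Set.univ : Set U) := fun a _ b _ h => inv_injective (hφ h)
  have hcoset : ∀ g : C, ∑ a : U, dim ⟨(g : A) * a, mul_mem g.2 (P.memC a.2)⟩ ≤ n := by
    intro g
    refine le_trans (Finset.sum_le_sum fun a _ => ?_)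
      (sum_finrank_eigenspace_le (T g) (fun a : U => φ a⁻¹) Finset.univ (by simpa using hχ))
    refine le_of_eq (congrArg (fun W : Submodule K V => finrank K W) ?_)
    ext v
    rw [hTmem, hTmem, one_smul, hφs, Subgroup.coe_inv, mul_smul,
      show (g : A) • (a : A) • v = (a : A) • (g : A) • v by rw [← mul_smul, P.central g g.2 a a.2, mul_smul],
      eq_inv_smul_iff]
  -- three eigenspaces
  have hthird : ∀ g : C, ∀ x ∈ F, ⁅(g : A), x⁆ ∈ U → ⁅(g : A), x⁆ ≠ 1 → 3 * dim g ≤ n := by
    intro g x hx hz hz1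
    set z : U := ⟨⁅(g : A), x⁆, hz⟩
    have hord : 3 ≤ orderOf z := by
      have h0 := orderOf_pos z
      have h1 : Odd (orderOf z) := (odd_subgroup hA U).of_dvd_nat (orderOf_dvd_natCard _)
      have h2 : orderOf z ≠ 1 := fun e => hz1 (congrArg Subtype.val (orderOf_eq_one_iff.1 e))
      obtain ⟨k, hk⟩ := h1
      omega
    have hinj : Set.InjOn (fun i : Fin 3 => φ (z ^ (i : ℕ))) ((Finset.univ : Finset (Fin 3)) : Set (Fin 3)) := by
      intro i _ j _ h
      refine Fin.ext ?_
      have := pow_inj_mod.1 (hφ h)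
      rwa [Nat.mod_eq_of_lt (by omega), Nat.mod_eq_of_lt (by omega)] at this
    refine le_trans ?_ (sum_finrank_eigenspace_le (T g) (fun i : Fin 3 => φ (z ^ (i : ℕ))) Finset.univ hinj)
    have hle : ∀ i : Fin 3, dim g ≤ finrank K ((T g).eigenspace (φ (z ^ (i : ℕ)))) := by
      intro i
      refine LinearMap.finrank_le_finrank_of_injective
        (f := { toFun := fun v => ⟨x ^ (i : ℕ) • (v : V), ?_⟩
                map_add' := fun v w => Subtype.ext (smul_add _ (v : V) w)
                map_smul' := fun c v => Subtype.ext (hlin _ (Subgroup.pow_mem C (P.leC hx) _) c v) })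
        fun v w h => Subtype.ext ((MulAction.injective (x ^ (i : ℕ))) (congrArg Subtype.val h))
      rw [hTmem, hφs]
      have hfixv : (g : A) • (v : V) = v := by
        have := (hTmem g 1 v).1 v.2
        rwa [one_smul] at this
      have hzi : ⁅(g : A), x ^ (i : ℕ)⁆ = ((z ^ (i : ℕ) : U) : A) := by
        have hpow : ∀ k : ℕ, ⁅(g : A), x ^ k⁆ = ⁅(g : A), x⁆ ^ k := by
          intro k
          induction k with
          | zero => simp
          | succ k ih => rw [pow_succ, P.mul_right (Subgroup.pow_mem C (P.leC hx) k) hz, ih, pow_succ]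
        rw [hpow, SubmonoidClass.coe_pow]
      conv_rhs => rw [← hfixv]
      rw [← mul_smul, ← mul_smul, ← mul_smul, ← hzi]
      congr 1
      simp only [commutatorElement_def]; group
    calc 3 * dim g = ∑ _i : Fin 3, dim g := by simp
      _ ≤ _ := Finset.sum_le_sum fun i _ => hle i
  have hker : ∀ g : C, (g : A) ∈ P.ker → (g : A) ∉ U → 3 * dim g ≤ n := by
    intro g hg hgU
    obtain ⟨x, hx, hgx⟩ : ∃ x ∈ F, ⁅(g : A), x⁆ ≠ 1 := by
      by_contra hno
      push Not at hno
      exact hgU (P.sep g g.2 fun y hy => commutatorElement_eq_one_iff_mul_comm.1 (hno y hy))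
    exact hthird g x hx (hg.2 x hx) hgx
  have hall : ∀ g : C, (g : A) ∉ P.ker → 3 * dim g ≤ 2 * n := by
    intro g hg
    obtain ⟨x, hx, hgx⟩ : ∃ x ∈ F, ⁅(g : A), x⁆ ∉ U := by
      by_contra hno
      push Not at hno
      exact hg ⟨g.2, hno⟩
    let h : C := ⟨⁅(g : A), x⁆, P.leC (P.comm_memF hx)⟩
    have hh : 3 * dim h ≤ n := hker h (P.F_le_ker (P.comm_memF hx)) hgx
    let xC : C := ⟨x, P.leC hx⟩
    let Ex := ((T g).eigenspace 1).map (T xC)
    have hEx : finrank K Ex = dim g := by
      refine (LinearEquiv.finrank_eq (Submodule.equivMapOfInjective (T xC) ?_ _)).symm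
      exact fun v w e => (MulAction.injective x) e
    have hsub : (T g).eigenspace 1 ⊓ Ex ≤ (T h).eigenspace 1 := by
      rintro v ⟨hv, w, hw, rfl⟩
      rw [SetLike.mem_coe, hTmem, one_smul] at hv hw
      rw [hTmem, one_smul]
      show ⁅(g : A), x⁆ • x • w = x • w
      have hv' : (g : A) • x • w = x • w := hv
      rw [commutatorElement_def, ← mul_smul, show (g : A) * x * (g : A)⁻¹ * x⁻¹ * x = (g : A) * x * (g : A)⁻¹ by group,
        mul_smul, mul_smul, show (g : A)⁻¹ • w = w by rw [inv_smul_eq_iff, hw], hv']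
    have h1 := Submodule.finrank_sup_add_finrank_inf_eq ((T g).eigenspace 1) Ex
    have h2 := Submodule.finrank_mono hsub
    have h3 := Submodule.finrank_le ((T g).eigenspace 1 ⊔ Ex)
    rw [hEx] at h1
    change _ ≤ dim h at h2
    change _ = dim g + dim g at h1
    omega
  -- the cosets
  let G : Finset A := Finset.univ.filter fun g => g ∈ C ∧ g ∉ U
  let T₁ : Finset (A ⧸ U) :=
    (Finset.univ.filter fun g : A => g ∈ P.ker ∧ g ∉ U).image (QuotientGroup.mk : A → A ⧸ U)
  let T₂ : Finset (A ⧸ U) :=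
    (Finset.univ.filter fun g : A => g ∈ C ∧ g ∉ P.ker).image (QuotientGroup.mk : A → A ⧸ U)
  set L := 2 * n / 3 with hL
  have hcosetsum : ∀ g₀ : C, ∑ g ∈ G.filter (fun g => (QuotientGroup.mk g : A ⧸ U) = QuotientGroup.mk (g₀ : A)),
      (fx g).card ≤ ∑ a : U, (q ^ dim ⟨(g₀ : A) * a, mul_mem g₀.2 (P.memC a.2)⟩ - 1) := by
    intro g₀
    refine le_trans (Finset.sum_le_sum_of_subset (f := fun g => (fx g).card)
      (t := (Finset.univ : Finset U).image (fun a : U => (g₀ : A) * (a : A))) fun g hg => ?_) ?_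
    · rw [Finset.mem_filter] at hg
      exact Finset.mem_image.2 ⟨⟨(g₀ : A)⁻¹ * g, (QuotientGroup.eq (s := U)).1 hg.2.symm⟩, Finset.mem_univ _,
        mul_inv_cancel_left _ _⟩
    · rw [Finset.sum_image fun a _ b _ e => Subtype.ext (mul_left_cancel e)]
      exact Finset.sum_le_sum fun a _ => (hfx ⟨_, mul_mem g₀.2 (P.memC a.2)⟩).le
  have hnot : ∀ g : A, ∀ a : U, g ∈ P.ker ↔ g * a ∈ P.ker := fun g a =>
    ⟨fun h => mul_mem h (P.le_ker a.2), fun h => by
      simpa using mul_mem h (inv_mem (P.le_ker a.2))⟩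
  have hs1 : ∀ c ∈ T₁, ∑ g ∈ G.filter (fun g => (QuotientGroup.mk g : A ⧸ U) = c), (fx g).card ≤ 5 * q ^ (n / 3) := by
    intro c hc
    obtain ⟨g₀, hg₀, rfl⟩ := Finset.mem_image.1 hc
    rw [Finset.mem_filter] at hg₀
    refine (hcosetsum ⟨g₀, hg₀.2.1.1⟩).trans (sum_pow_sub_one_le _ _ (n := n) (by omega) (by omega)
      (fun a _ => ?_) (hcoset ⟨g₀, hg₀.2.1.1⟩) (by omega))
    have := hker ⟨g₀ * a, mul_mem hg₀.2.1.1 (P.memC a.2)⟩ ((hnot g₀ a).1 hg₀.2.1)
      (fun h => hg₀.2.2 (by simpa using mul_mem h (inv_mem a.2)))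
    exact (Nat.le_div_iff_mul_le (by norm_num)).2 ((mul_comm _ _).trans_le this)
  obtain ⟨hs3, hs5, hs7, hs9, hs11⟩ := small_relIndex P hA φ hφ hgen he
  have hs2 : ∀ c ∈ T₂, ∑ g ∈ G.filter (fun g => (QuotientGroup.mk g : A ⧸ U) = c), (fx g).card ≤
      q ^ L + q ^ (n - L) := by
    intro c hc
    obtain ⟨g₀, hg₀, rfl⟩ := Finset.mem_image.1 hc
    rw [Finset.mem_filter] at hg₀
    have he5 : 5 ≤ e := by
      by_contra h
      have he' : e = 3 := by obtain ⟨k, hk⟩ := heo; omega
      have h1 := hs3 he'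
      have h2 : P.ker.relIndex C ≠ 0 := Subgroup.index_ne_zero_of_finite
      exact hg₀.2.2 ((Subgroup.relIndex_eq_one.1 (by omega)) hg₀.2.1)
    refine (hcosetsum ⟨g₀, hg₀.2.1⟩).trans (sum_pow_sub_one_le_two _ _ (n := n) (by obtain ⟨k, hk⟩ := hqo; omega)
      (fun a _ => ?_) (hcoset ⟨g₀, hg₀.2.1⟩) (by omega) (by omega) (by omega))
    have := hall ⟨g₀ * a, mul_mem hg₀.2.1 (P.memC a.2)⟩ (fun h => hg₀.2.2 ((hnot g₀ a).2 h))
    exact (Nat.le_div_iff_mul_le (by norm_num)).2 ((mul_comm _ _).trans_le this)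
  -- the numbers of cosets
  have hcard : ∀ (X : Subgroup A), U ≤ X → Nat.card (X.map (QuotientGroup.mk' U)) = U.relIndex X := by
    intro X hX
    have h1 := Subgroup.relIndex_map_map (QuotientGroup.mk' U) U X
    rw [QuotientGroup.ker_mk', sup_idem, sup_of_le_left hX, QuotientGroup.map_mk'_self,
      Subgroup.relIndex_bot_left] at h1
    exact h1
  have hT₁ : T₁.card ≤ e * e := by
    refine le_trans ?_ ((P.ker_relIndex_le φ hφ).trans he.le)
    rw [← hcard _ P.le_ker, ← SetLike.coe_sort_coe, Nat.card_coe_set_eq, ← Set.ncard_coe_finset]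
    refine Set.ncard_le_ncard (fun c hc => ?_) (Set.toFinite _)
    obtain ⟨g, hg, rfl⟩ := Finset.mem_image.1 (Finset.mem_coe.1 hc)
    exact ⟨g, (Finset.mem_filter.1 hg).2.1, rfl⟩
  set N := U.relIndex P.ker * (P.ker.relIndex C - 1) with hN
  have hT₂ : T₂.card ≤ N := by
    rw [hN, Nat.mul_sub_one, Subgroup.relIndex_mul_relIndex U P.ker C P.le_ker P.ker_le, ← hcard _ P.le_ker,
      ← hcard _ (P.le.trans P.leC), ← SetLike.coe_sort_coe, ← SetLike.coe_sort_coe, Nat.card_coe_set_eq,
      Nat.card_coe_set_eq, ← Set.ncard_coe_finset, ← Set.ncard_diff (SetLike.coe_subset_coe.2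
        (Subgroup.map_mono P.ker_le)) (Set.toFinite _)]
    refine Set.ncard_le_ncard (fun c hc => ?_) (Set.toFinite _)
    obtain ⟨g, hg, rfl⟩ := Finset.mem_image.1 (Finset.mem_coe.1 hc)
    obtain ⟨-, hgC, hgk⟩ := Finset.mem_filter.1 hg
    refine ⟨⟨g, hgC, rfl⟩, ?_⟩
    rintro ⟨k, hk, e⟩
    refine hgk ?_
    rw [show g = k * (k⁻¹ * g) by group]
    exact mul_mem hk (P.le_ker ((QuotientGroup.eq (s := U)).1 e))
  have hkl : U.relIndex P.ker ≤ e * e := (P.ker_relIndex_le φ hφ).trans he.le
  have h6 := P.six_mul_le hA hgen hne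
  rw [he] at h6
  have hNle : N ≤ (e * e) * (P.ker.relIndex C - 1) := Nat.mul_le_mul_right _ hkl
  have hnum := count_lt (q := q) (n := n) (e := e) (N := N) heo he3 hen hqo hq1 hdvd
    (by
      calc 6 * N ≤ 6 * ((e * e) * P.ker.relIndex C) :=
            Nat.mul_le_mul_left 6 (hNle.trans (Nat.mul_le_mul_left _ (Nat.sub_le _ _)))
        _ = (e * e) * (6 * P.ker.relIndex C) := by ring
        _ ≤ (e * e) * ((e * e) * (e * e)) := Nat.mul_le_mul_left _ h6
        _ = _ := by ring)
    (fun h => by have := hs3 h; rw [show P.ker.relIndex C - 1 = 0 by omega, mul_zero] at hNle; omega)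
    (fun h => by have := hs5 h; subst h; omega)
    (fun h => by have := hs7 h; subst h; omega)
    (fun h => by have := hs9 h; subst h; omega)
    (fun h => by have := hs11 h; subst h; omega)
  -- double counting
  by_contra hno
  push Not at hno
  have hlow : 2 * (Nat.card V - 1) ≤ ∑ g ∈ G, (fx g).card := by
    have hswap : ∑ g ∈ G, (fx g).card = ∑ v : V, (G.filter fun g => v ≠ 0 ∧ g • v = v).card :=
      Finset.sum_card_bipartiteAbove_eq_sum_card_bipartiteBelow (fun g v => v ≠ 0 ∧ g • v = v)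
    rw [hswap, Nat.card_eq_fintype_card, ← Finset.card_univ,
      ← Finset.card_erase_of_mem (Finset.mem_univ (0 : V)), mul_comm]
    refine le_trans ?_ (Finset.sum_le_sum_of_subset (Finset.erase_subset (0 : V) Finset.univ))
    rw [← smul_eq_mul]
    refine Finset.card_nsmul_le_sum _ _ _ fun v hv => ?_
    obtain ⟨g, hgC, hgv, hgU⟩ := hno v (Finset.ne_of_mem_erase hv)
    refine Finset.one_lt_card.2 ⟨g, ?_, g⁻¹, ?_, fun e => ?_⟩
    · simp [G, hgC, hgU, hgv, Finset.ne_of_mem_erase hv]
    · simp [G, hgC, hgU, inv_smul_eq_iff, hgv, Finset.ne_of_mem_erase hv]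
    · have h2 : g ^ 2 = 1 := by rw [sq]; nth_rw 2 [e]; exact mul_inv_cancel g
      exact hgU (BaseTwo.eq_of_sq hA U (h2 ▸ one_mem U))
  have hup : ∑ g ∈ G, (fx g).card ≤ 5 * (e * e) * q ^ (n / 3) + N * (q ^ L + q ^ (n - L)) := by
    rw [← Finset.sum_fiberwise_of_maps_to (t := T₁ ∪ T₂) (g := (QuotientGroup.mk : A → A ⧸ U)) fun g hg => ?_]
    · refine le_trans (le_trans (Nat.le_add_right _ _) Finset.sum_union_inter.le) (add_le_add ?_ ?_)
      · refine le_trans (Finset.sum_le_card_nsmul _ _ _ hs1) ?_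
        rw [smul_eq_mul]
        calc T₁.card * (5 * q ^ (n / 3)) ≤ (e * e) * (5 * q ^ (n / 3)) := Nat.mul_le_mul_right _ hT₁
          _ = _ := by ring
      · refine le_trans (Finset.sum_le_card_nsmul _ _ _ hs2) ?_
        rw [smul_eq_mul]
        exact Nat.mul_le_mul_right _ hT₂
    · rw [Finset.mem_filter] at hg
      by_cases hk : g ∈ P.ker
      · exact Finset.mem_union_left _ (Finset.mem_image.2 ⟨g, Finset.mem_filter.2 ⟨Finset.mem_univ _, hk, hg.2.2⟩, rfl⟩)
      · exact Finset.mem_union_right _ (Finset.mem_image.2 ⟨g, Finset.mem_filter.2 ⟨Finset.mem_univ _, hg.2.1, hk⟩, rfl⟩)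
  have h1 : 1 ≤ q ^ n := Nat.one_le_pow _ _ (by omega)
  rw [hcardV] at hlow
  rw [hL] at hup
  omega

end CfsgLib.Perm.DlNine.Odd
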