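import Cfsg.Agent.Lib.Perm.DlNine.Odd.Orbits

/-!
Small sections: the induced group is semiregular, so its order divides the number of non-trivial points.
-/

set_option autoImplicit false
set_option linter.style.haveILetI false
set_option linter.unusedSectionVars false

namespace CfsgLib.Perm.DlNine.Odd

open scoped commutatorElement

universe u

variable {A : Type u} [Group A]

namespace Pairing

variable {U C F : Subgroup A} (P : Pairing U C F)
include P

theorem card_section [Finite A] :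
    haveI := P.normalU
    Nat.card (F.map (QuotientGroup.mk' U)) = U.relIndex F := by
  haveI := P.normalU
  have h1 := Subgroup.relIndex_map_map (QuotientGroup.mk' U) U F
  rw [QuotientGroup.ker_mk', sup_idem, sup_of_le_left P.le, QuotientGroup.map_mk'_self,
    Subgroup.relIndex_bot_left] at h1
  exact h1

/-- an `r`-section built from minimal normal pieces has exponent `r` -/
theorem pow_r_mem [Finite A] (hgen : F = U ⊔ sSup {E : Subgroup A | E.Normal ∧ U < E ∧ E ≤ F ∧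
      ∀ N : Subgroup A, N.Normal → U ≤ N → N ≤ E → N = U ∨ N = E})
    {r k : ℕ} (hr : r.Prime) (hM : U.relIndex F = r ^ k) {x : A} (hx : x ∈ F) : x ^ r ∈ U := by
  classical
  haveI := P.normalU
  let q := QuotientGroup.mk' U
  have hcq : ∀ a ∈ F, ∀ b ∈ F, Commute (q a) (q b) := fun a ha b hb => by
    show q a * q b = q b * q a
    rw [← map_mul, ← map_mul, ← mul_inv_eq_one, ← map_inv, ← map_mul]
    refine (QuotientGroup.eq_one_iff _).2 ?_
    have := P.comm a ha b hb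
    rwa [commutatorElement_def, show a * b * a⁻¹ * b⁻¹ = a * b * (b * a)⁻¹ by group] at this
  have hone : ∀ {a : A}, q a = 1 ↔ a ∈ U := fun {a} => QuotientGroup.eq_one_iff a
  let R : Subgroup A :=
    { carrier := {a | a ∈ F ∧ a ^ r ∈ U}
      one_mem' := ⟨one_mem _, by rw [one_pow]; exact one_mem _⟩
      mul_mem' := fun {a b} ha hb => ⟨mul_mem ha.1 hb.1, hone.1 (by
        rw [map_pow, map_mul, (hcq a ha.1 b hb.1).mul_pow, ← map_pow, ← map_pow, hone.2 ha.2, hone.2 hb.2,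
          one_mul])⟩
      inv_mem' := fun {a} ha => ⟨inv_mem ha.1, by rw [inv_pow]; exact inv_mem ha.2⟩ }
  suffices F ≤ R from (this hx).2
  conv_lhs => rw [hgen]
  refine sup_le (fun a ha => ⟨P.le ha, Subgroup.pow_mem _ ha r⟩) (sSup_le fun E ⟨hEn, hUE, hEF, hEmin⟩ => ?_)
  have hn : (E ⊓ R).Normal := ⟨fun a ha g => ⟨hEn.conj_mem a ha.1 g, P.normal.conj_mem a ha.2.1 g, by
    rw [conj_pow]; exact P.normalU.conj_mem _ ha.2.2 g⟩⟩
  rcases hEmin (E ⊓ R) hn (le_inf hUE.le fun a ha => ⟨P.le ha, Subgroup.pow_mem _ ha r⟩) inf_le_left with h | h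
  · exfalso
    obtain ⟨a, ha, haU⟩ := SetLike.exists_of_lt hUE
    have hord : orderOf (q a) ∣ r ^ k := by
      rw [← hM, ← P.card_section]
      exact Subgroup.orderOf_dvd_natCard _ (show q a ∈ F.map q from ⟨a, hEF ha, rfl⟩)
    obtain ⟨i, -, hi⟩ := (Nat.dvd_prime_pow hr).1 hord
    obtain ⟨j, rfl⟩ : ∃ j, i = j + 1 := Nat.exists_eq_succ_of_ne_zero fun e => haU (hone.1 (by
      rw [e, pow_zero] at hi; exact orderOf_eq_one_iff.1 hi))
    have hmem : a ^ r ^ j ∈ E ⊓ R := ⟨Subgroup.pow_mem _ ha _, Subgroup.pow_mem _ (hEF ha) _, hone.1 (by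
      rw [← pow_mul, ← pow_succ, map_pow, ← hi, pow_orderOf_eq_one])⟩
    rw [h, ← hone, map_pow] at hmem
    have := Nat.le_of_dvd (pow_pos hr.pos j) (orderOf_dvd_of_pow_eq_one hmem)
    rw [hi, pow_succ] at this
    nlinarith [hr.two_le, pow_pos hr.pos j]
  · exact h.symm.le.trans inf_le_right

/-- a normal `r`-part acts trivially on an `r`-section -/
theorem le_ker_of_rGroup [Finite A] (hgen : F = U ⊔ sSup {E : Subgroup A | E.Normal ∧ U < E ∧ E ≤ F ∧
      ∀ N : Subgroup A, N.Normal → U ≤ N → N ≤ E → N = U ∨ N = E})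
    {r k : ℕ} [hr : Fact r.Prime] (hM : U.relIndex F = r ^ k) {R : Subgroup A} (hRC : R ≤ C) (hR : Stab C R)
    (hRr : ∀ g ∈ R, ∃ i : ℕ, g ^ r ^ i ∈ P.ker) : R ≤ P.ker := by
  classical
  haveI := P.normalU
  let Y : Subgroup A :=
    { carrier := {z | z ∈ F ∧ ∀ g ∈ R, ⁅g, z⁆ ∈ U}
      one_mem' := ⟨one_mem _, fun g _ => by rw [commutatorElement_one_right]; exact one_mem U⟩
      mul_mem' := fun {a b} ha hb => ⟨mul_mem ha.1 hb.1, fun g hg => by
        rw [P.mul_right (P.leC ha.1) (hb.2 g hg)]; exact mul_mem (ha.2 g hg) (hb.2 g hg)⟩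
      inv_mem' := fun {a} ha => ⟨inv_mem ha.1, fun g hg => by
        rw [show ⁅g, a⁻¹⁆ = a⁻¹ * ⁅g, a⁆⁻¹ * a⁻¹⁻¹ by simp only [commutatorElement_def]; group]
        exact P.normalU.conj_mem _ (inv_mem (ha.2 g hg)) _⟩ }
  have hUY : U ≤ Y := fun u hu => ⟨P.le hu, fun g hg => by
    rw [P.comm_one_of_mem (hRC hg) hu]; exact one_mem U⟩
  have hYst : Stab C Y := fun c hc z hz => ⟨P.normal.conj_mem z hz.1 c, fun g hg => by
    have h := P.normalU.conj_mem _ (hz.2 (c⁻¹ * g * c) (by simpa using hR c⁻¹ (inv_mem hc) g hg)) c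
    convert h using 1
    simp only [commutatorElement_def]; group⟩
  obtain ⟨Y', hUY', hY'F, hY', hinf, hsup⟩ := P.exists_compl hgen hUY (fun z hz => hz.1) hYst
  let q := QuotientGroup.mk' U
  let Z : Subgroup (A ⧸ U) := Y'.map q
  by_cases hYU : Y' ≤ U
  · intro g hg
    refine ⟨hRC hg, fun z hz => ?_⟩
    have hz' : z ∈ Y ⊔ Y' := by rw [hsup]; exact hz
    rw [sup_of_le_left (hYU.trans hUY)] at hz'
    exact hz'.2 g hg
  exfalso
  letI : MulAction R Z :=
    { smul := fun g z => ⟨q g * z * (q g)⁻¹, by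
        obtain ⟨y, hy, e⟩ := z.2
        exact ⟨(g : A) * y * (g : A)⁻¹, hY' g (hRC g.2) y hy, by rw [map_mul, map_mul, map_inv, e]⟩⟩
      one_smul := fun z => Subtype.ext (show q ((1 : R) : A) * z * (q ((1 : R) : A))⁻¹ = z by simp)
      mul_smul := fun a b z => Subtype.ext (by
        show q ((a * b : R) : A) * z * (q ((a * b : R) : A))⁻¹ = q a * (q b * z * (q b)⁻¹) * (q a)⁻¹
        rw [Subgroup.coe_mul, map_mul]; group) }
  let φ := MulAction.toPermHom R Z
  have hker : ∀ g : R, (g : A) ∈ P.ker → φ g = 1 := fun g hg => Equiv.ext fun z => Subtype.ext (by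
    show q g * z * (q g)⁻¹ = (z : A ⧸ U)
    obtain ⟨y, hy, e⟩ := z.2
    rw [← e, ← map_inv, ← map_mul, ← map_mul]
    exact (P.fix_iff (hY'F hy)).2 (hg.2 y (hY'F hy)))
  have hpg : IsPGroup r φ.range := by
    rintro ⟨_, g, rfl⟩
    obtain ⟨i, hi⟩ := hRr g g.2
    exact ⟨i, Subtype.ext (show φ g ^ r ^ i = 1 by rw [← map_pow]; exact hker _ hi)⟩
  have hdvd : r ∣ Nat.card Z := by
    have h1 : Nat.card Z ∣ r ^ k := by
      rw [← hM, ← P.card_section]
      exact Subgroup.card_dvd_of_le (Subgroup.map_mono hY'F)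
    obtain ⟨i, -, hi⟩ := (Nat.dvd_prime_pow hr.out).1 h1
    rw [hi]
    refine dvd_pow_self r fun e => hYU fun y hy => ?_
    rw [e, pow_zero, Subgroup.card_eq_one] at hi
    exact (QuotientGroup.eq_one_iff y).1 (Subgroup.mem_bot.1 (hi ▸ (⟨y, hy, rfl⟩ : q y ∈ Z)))
  obtain ⟨z, hz, hz1⟩ := hpg.exists_fixed_point_of_prime_dvd_card_of_fixed_point Z hdvd (a := (1 : Z))
    (fun g => by
      obtain ⟨_, g, rfl⟩ := g
      exact Subtype.ext (show q g * 1 * (q g)⁻¹ = 1 by group))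
  obtain ⟨y, hy, e⟩ := z.2
  have hyY : y ∈ Y := ⟨hY'F hy, fun g hg => (P.fix_iff (hY'F hy)).1 (by
    have h := congrArg Subtype.val (hz ⟨φ ⟨g, hg⟩, ⟨g, hg⟩, rfl⟩)
    have h' : q g * (z : A ⧸ U) * (q g)⁻¹ = z := h
    rw [← e, ← map_inv, ← map_mul, ← map_mul] at h'
    exact h')⟩
  have hyU : y ∈ U := hinf ▸ (⟨hyY, hy⟩ : y ∈ Y ⊓ Y')
  exact hz1 (Subtype.ext (by rw [← e]; exact ((QuotientGroup.eq_one_iff y).2 hyU).symm))

/-- semiregularity: the induced group has order dividing the number of non-trivial points -/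
theorem dvd_sub_one [Finite A] (hA : Odd (Nat.card A))
    (hgen : F = U ⊔ sSup {E : Subgroup A | E.Normal ∧ U < E ∧ E ≤ F ∧
      ∀ N : Subgroup A, N.Normal → U ≤ N → N ≤ E → N = U ∨ N = E})
    {r k : ℕ} [hr : Fact r.Prime] (hk : k ≠ 0) (hM : U.relIndex F = r ^ k)
    (hdiv : ∀ d ∈ (r ^ k - 1).divisors, Odd d → d % r = 1 → d = 1)
    (hstab : ∀ x ∈ F, x ∉ U → ∀ g ∈ C, ⁅g, x⁆ ∈ U → ∃ i : ℕ, g ^ r ^ i ∈ P.ker) :
    P.ker.relIndex C ∣ r ^ k - 1 := by
  classical
  haveI := P.normalU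
  haveI := P.normalC
  haveI := P.ker_normal
  have hk0 : 1 ≤ r ^ k := Nat.one_le_pow _ _ hr.out.pos
  let q := QuotientGroup.mk' U
  let Q : Subgroup (A ⧸ U) := F.map q
  let X := {z : A ⧸ U // z ∈ (Q : Set (A ⧸ U)) \ {1}}
  haveI : Fintype X := Fintype.ofFinite _
  letI : MulAction C X :=
    { smul := fun g z => ⟨q g * z * (q g)⁻¹, by
        obtain ⟨⟨y, hy, e⟩, hz1⟩ := z.2
        refine ⟨⟨(g : A) * y * (g : A)⁻¹, P.normal.conj_mem y hy g, by rw [map_mul, map_mul, map_inv, e]⟩, fun h => hz1 ?_⟩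
        rw [Set.mem_singleton_iff, conj_eq_one_iff] at h
        exact h⟩
      one_smul := fun z => Subtype.ext (show q ((1 : C) : A) * z * (q ((1 : C) : A))⁻¹ = z by simp)
      mul_smul := fun a b z => Subtype.ext (by
        show q ((a * b : C) : A) * z * (q ((a * b : C) : A))⁻¹ = q a * (q b * z * (q b)⁻¹) * (q a)⁻¹
        rw [Subgroup.coe_mul, map_mul]; group) }
  have hXcard : Nat.card X = r ^ k - 1 := by
    rw [← hM, ← P.card_section]
    show Nat.card ↑((Q : Set (A ⧸ U)) \ {1}) = _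
    rw [Nat.card_coe_set_eq, Set.ncard_diff_singleton_of_mem (one_mem Q)]
    exact congrArg (· - 1) (Nat.card_coe_set_eq (Q : Set (A ⧸ U))).symm
  have hXrep : ∀ z : X, ∃ x ∈ F, x ∉ U ∧ q x = z.1 := fun z => by
    obtain ⟨⟨y, hy, e⟩, hz1⟩ := z.2
    exact ⟨y, hy, fun hyU => hz1 (by rw [Set.mem_singleton_iff, ← e]; exact (QuotientGroup.eq_one_iff y).2 hyU), e⟩
  have hstabiff : ∀ (z : X) {x : A}, x ∈ F → q x = z.1 → ∀ g : C,
      g ∈ MulAction.stabilizer C z ↔ ⁅(g : A), x⁆ ∈ U := by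
    intro z x hx e g
    rw [MulAction.mem_stabilizer_iff, Subtype.ext_iff, ← P.fix_iff hx]
    show q g * z.1 * (q g)⁻¹ = z.1 ↔ q (g * x * (g : A)⁻¹) = q x
    rw [map_mul, map_mul, map_inv, e]
  let K : Subgroup C := P.ker.subgroupOf C
  have hKle : ∀ z : X, K ≤ MulAction.stabilizer C z := fun z g hg => by
    obtain ⟨x, hx, -, e⟩ := hXrep z
    exact (hstabiff z hx e g).2 (hg.2 x hx)
  haveI hKn : K.Normal := by
    show (P.ker.subgroupOf C).Normal
    infer_instance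
  obtain ⟨a, b, hb, hab⟩ := Nat.exists_eq_pow_mul_and_not_dvd (n := K.index) Subgroup.index_ne_zero_of_finite r hr.out.ne_one
  have hrb : r.Coprime b := hr.out.coprime_iff_not_dvd.2 hb
  have horb : ∀ z : X, b ∣ Nat.card (MulAction.orbit C z) := by
    intro z
    obtain ⟨x, hx, hxU, e⟩ := hXrep z
    have h1 := Subgroup.relIndex_mul_index (hKle z)
    rw [hab, MulAction.index_stabilizer, ← Nat.card_coe_set_eq] at h1
    have hp : IsPGroup r (MulAction.stabilizer C z ⧸ K.subgroupOf (MulAction.stabilizer C z)) := by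
      intro c
      obtain ⟨g, rfl⟩ := QuotientGroup.mk_surjective c
      obtain ⟨i, hi⟩ := hstab x hx hxU _ (g : C).2 ((hstabiff z hx e g).1 g.2)
      exact ⟨i, (QuotientGroup.eq_one_iff _).2 (Subgroup.mem_subgroupOf.2 (Subgroup.mem_subgroupOf.2 hi))⟩
    obtain ⟨j, hj⟩ := IsPGroup.iff_card.1 hp
    rw [← Subgroup.index_eq_card] at hj
    change K.relIndex _ = _ at hj
    rw [hj] at h1
    exact (Nat.Coprime.pow_left j hrb).symm.dvd_of_dvd_mul_left (h1 ▸ Dvd.intro_left _ rfl)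
  have hbdvd : b ∣ r ^ k - 1 := by
    rw [← hXcard, Nat.card_congr (MulAction.selfEquivSigmaOrbits C X)]
    haveI : Fintype (MulAction.orbitRel.Quotient C X) := Fintype.ofFinite _
    rw [Nat.card_sigma]
    exact Finset.dvd_sum fun c _ => horb c.out
  -- the Sylow subgroup of the induced group is normal, hence trivial
  obtain ⟨S⟩ : Nonempty (Sylow r (C ⧸ K)) := inferInstance
  have hcard : Nat.card (C ⧸ K) = r ^ a * b := by rw [← Subgroup.index_eq_card, hab]
  have hSb : Nat.card (Sylow r (C ⧸ K)) ∣ b := by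
    have h1 : Nat.card (Sylow r (C ⧸ K)) ∣ Nat.card (C ⧸ K) :=
      S.card_dvd_index.trans (Subgroup.index_dvd_card _)
    have h2 := S.not_dvd_index
    rw [hcard] at h1
    refine (Nat.Coprime.pow_right a ?_).dvd_of_dvd_mul_left h1
    exact (hr.out.coprime_iff_not_dvd.2 fun h => h2 (h.trans S.card_dvd_index)).symm
  have hone : Nat.card (Sylow r (C ⧸ K)) = 1 := by
    refine hdiv _ (Nat.mem_divisors.2 ⟨hSb.trans hbdvd, ?_⟩) ?_ ?_
    · have h := Nat.one_lt_pow hk hr.out.one_lt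
      omega
    · exact (BaseTwo.odd_subgroup hA C).of_dvd_nat ((hSb.trans ⟨r ^ a, by rw [hab, mul_comm]⟩).trans K.index_dvd_card)
    · have := card_sylow_modEq_one r (C ⧸ K)
      rw [Nat.ModEq, Nat.one_mod_eq_one.2 hr.out.ne_one] at this
      exact this
  haveI : Subsingleton (Sylow r (C ⧸ K)) := (Nat.card_eq_one_iff_unique.1 hone).1
  haveI := Sylow.normal_of_subsingleton S
  let R : Subgroup A := ((S : Subgroup (C ⧸ K)).comap (QuotientGroup.mk' K)).map C.subtype
  have hRC : R ≤ C := Subgroup.map_subtype_le _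
  have hR : Stab C R := by
    rintro g hg _ ⟨y, hy, rfl⟩
    exact ⟨⟨g, hg⟩ * y * ⟨g, hg⟩⁻¹,
      (inferInstance : ((S : Subgroup (C ⧸ K)).comap (QuotientGroup.mk' K)).Normal).conj_mem y hy _, rfl⟩
  have hle := P.le_ker_of_rGroup hgen hM hRC hR (by
    rintro _ ⟨y, hy, rfl⟩
    obtain ⟨i, hi⟩ := S.isPGroup' ⟨_, hy⟩
    have h := congrArg Subtype.val hi
    simp only [SubmonoidClass.coe_pow, OneMemClass.coe_one] at h
    rw [← map_pow, QuotientGroup.mk'_apply, QuotientGroup.eq_one_iff] at h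
    exact ⟨i, by simpa using Subgroup.mem_subgroupOf.1 h⟩)
  have hS1 : (S : Subgroup (C ⧸ K)) = ⊥ := (Subgroup.eq_bot_iff_forall _).2 fun c hc => by
    obtain ⟨y, rfl⟩ := QuotientGroup.mk_surjective c
    exact (QuotientGroup.eq_one_iff y).2 (Subgroup.mem_subgroupOf.2 (hle ⟨y, hc, rfl⟩))
  have ha : a = 0 := by
    by_contra ha
    have h2 := S.not_dvd_index
    rw [hS1, Subgroup.index_bot, hcard] at h2
    exact h2 ((dvd_pow_self r ha).mul_right b)
  rw [ha, pow_zero, one_mul] at hab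
  show K.index ∣ _
  rw [hab]
  exact hbdvd

/-- stabilisers in a section of order `r ^ 2` -/
theorem stab_two [Finite A] {r : ℕ} [hr : Fact r.Prime] (hM : U.relIndex F = r ^ 2) :
    ∀ x ∈ F, x ∉ U → ∀ g ∈ C, ⁅g, x⁆ ∈ U → ∃ i : ℕ, g ^ r ^ i ∈ P.ker := by
  intro x hx hxU g hg hgx
  haveI := P.normalU
  let q := QuotientGroup.mk' U
  let X : Subgroup A :=
    { carrier := {y | y ∈ F ∧ ⁅x, y⁆ = 1}
      one_mem' := ⟨one_mem _, commutatorElement_one_right _⟩
      mul_mem' := fun {a b} ha hb => ⟨mul_mem ha.1 hb.1, by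
        rw [P.mul_right (P.leC ha.1) (P.comm x hx b hb.1), ha.2, hb.2, one_mul]⟩
      inv_mem' := fun {a} ha => ⟨inv_mem ha.1, commutatorElement_eq_one_iff_mul_comm.2
        ((commutatorElement_eq_one_iff_commute.1 ha.2).inv_right).eq⟩ }
  have hUX : U ≤ X := fun u hu => ⟨P.le hu, P.comm_one_of_mem (P.leC hx) hu⟩
  have hXF : X ≤ F := fun y hy => hy.1
  have hxX : x ∈ X := ⟨hx, commutatorElement_self x⟩
  have h1 := Subgroup.relIndex_mul_relIndex U X F hUX hXF
  rw [hM] at h1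
  obtain ⟨i, hi, hUXi⟩ := (Nat.dvd_prime_pow hr.out).1 (Dvd.intro _ h1)
  have hXF1 : X.relIndex F ≠ 1 := fun e => hxU (P.sep x (P.leC hx) fun y hy =>
    commutatorElement_eq_one_iff_mul_comm.1 ((Subgroup.relIndex_eq_one.1 e) hy).2)
  have hr1 : U.relIndex X = r := by
    interval_cases i
    · rw [pow_zero] at hUXi
      exact absurd ((Subgroup.relIndex_eq_one.1 hUXi) hxX) hxU
    · rw [hUXi, pow_one]
    · rw [hUXi] at h1
      exact absurd ((Nat.mul_eq_left (pow_ne_zero 2 hr.out.ne_zero)).1 h1) hXF1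
  let X₀ : Subgroup A := U ⊔ Subgroup.zpowers x
  have hX₀X : X₀ ≤ X := sup_le hUX (Subgroup.zpowers_le.2 hxX)
  have hXX₀ : X ≤ X₀ := by
    refine Subgroup.relIndex_eq_one.1 ?_
    have h2 := Subgroup.relIndex_mul_relIndex U X₀ X le_sup_left hX₀X
    rw [hr1] at h2
    rcases (Nat.dvd_prime hr.out).1 (Dvd.intro _ h2) with h3 | h3
    · exact absurd ((Subgroup.relIndex_eq_one.1 h3) (Subgroup.mem_sup_right (Subgroup.mem_zpowers x))) hxU
    · rw [h3] at h2
      exact (Nat.mul_eq_left hr.out.ne_zero).1 h2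
  have hqx : Commute (q g) (q x) := by
    have h := (P.fix_iff hx).2 hgx
    have h' : q g * q x * (q g)⁻¹ = q x := by rw [← map_inv, ← map_mul, ← map_mul]; exact h
    exact mul_inv_eq_iff_eq_mul.1 h'
  refine ⟨1, ?_⟩
  rw [pow_one]
  refine ⟨Subgroup.pow_mem C hg r, fun y hy => (P.fix_iff hy).1 ?_⟩
  set z := ⁅g, y⁆ with hz
  have hzX : z ∈ X := ⟨P.comm_memF hy, by
    have hgy : g * y * g⁻¹ ∈ F := P.normal.conj_mem y hy g
    have e1 : ⁅x, g * y * g⁻¹⁆ = ⁅x, y⁆ := by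
      have e2 : g * x * g⁻¹ = ⁅g, x⁆ * x := by simp [commutatorElement_def]
      calc ⁅x, g * y * g⁻¹⁆ = ⁅⁅g, x⁆ * x, g * y * g⁻¹⁆ := by
            rw [P.mul_left (P.memC hgx) hgy (P.comm x hx _ hgy), P.comm_one_of_mem' (P.leC hgy) hgx, one_mul]
        _ = g * ⁅x, y⁆ * g⁻¹ := by rw [← e2]; simp only [commutatorElement_def]; group
        _ = ⁅x, y⁆ := by rw [P.central g hg _ (P.comm x hx y hy), mul_inv_cancel_right]
    rw [show z = g * y * g⁻¹ * y⁻¹ by rw [hz, commutatorElement_def],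
      P.mul_right (P.leC hgy) (P.comm x hx _ (inv_mem hy)), e1, ← P.mul_right (P.leC hy) (P.comm x hx _ (inv_mem hy)),
      mul_inv_cancel, commutatorElement_one_right]⟩
  have hzx : Commute (q g) (q z) := by
    have hsub : X₀ ≤ (Subgroup.centralizer ({q g} : Set (A ⧸ U))).comap q := by
      refine sup_le (fun u hu => ?_) (Subgroup.zpowers_le.2 ?_) <;>
        rw [Subgroup.mem_comap, Subgroup.mem_centralizer_singleton_iff]
      · rw [show q u = 1 from (QuotientGroup.eq_one_iff u).2 hu, one_mul, mul_one]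
      · exact hqx.eq.symm
    have := hsub (hXX₀ hzX)
    rw [Subgroup.mem_comap, Subgroup.mem_centralizer_singleton_iff] at this
    exact this.symm
  have hiter : ∀ j : ℕ, (q g) ^ j * q y * ((q g) ^ j)⁻¹ = q z ^ j * q y := by
    intro j
    induction j with
    | zero => simp
    | succ j ih =>
      rw [pow_succ' (q g), mul_inv_rev,
        show q g * q g ^ j * q y * ((q g ^ j)⁻¹ * (q g)⁻¹) = q g * (q g ^ j * q y * (q g ^ j)⁻¹) * (q g)⁻¹ by group,
        ih, show q g * (q z ^ j * q y) * (q g)⁻¹ = (q g * q z ^ j * (q g)⁻¹) * (q g * q y * (q g)⁻¹) by group,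
        (hzx.pow_right j).eq, mul_inv_cancel_right,
        show q g * q y * (q g)⁻¹ = q z * q y by
          rw [hz, commutatorElement_def, map_mul, map_mul, map_mul, map_inv, map_inv]; group,
        ← mul_assoc, ← pow_succ]
  have hzr : q z ^ r = 1 := by
    rw [← map_pow]
    refine (QuotientGroup.eq_one_iff _).2 ?_
    haveI : (U.subgroupOf X).Normal := inferInstance
    have h3 := Subgroup.pow_index_mem (U.subgroupOf X) (⟨z, hzX⟩ : X)
    rw [show (U.subgroupOf X).index = r from hr1] at h3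
    exact Subgroup.mem_subgroupOf.1 h3
  show q (g ^ r * y * (g ^ r)⁻¹) = q y
  rw [map_mul, map_mul, map_inv, map_pow, hiter r, hzr, one_mul]

end Pairing

end CfsgLib.Perm.DlNine.Odd
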